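import Groth.Agent.Sga4A.EtStalkPull
import Groth.Agent.S6179
import Groth.Prelude.Def_Hens2

/-!
# Fibre functors and sections over strictly henselian local schemes

* `secIsoFiber R` : over a strictly henselian local ring, sections over the whole spectrum are naturally
  isomorphic to the fibre at the closed geometric point.
* `fiberPullIso f ξ` : the fibre functor at `ξ ≫ f` is the inverse image followed by the fibre functor at `ξ`.
-/

set_option autoImplicit false
universe u

open CategoryTheory CategoryTheory.Limits AlgebraicGeometry Opposite

namespace K223.FibSec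

open EtDesc Groth.Agent.Sga4A.EtStalk Groth.Agent.Etbase

/-- Global sections and the fibre at the closed geometric point of a strictly henselian local scheme. -/
noncomputable def secIsoFiber (R : Type u) [CommRing R] [HenselianLocalRing R]
    [IsSepClosed (IsLocalRing.ResidueField R)] :
    (sheafSections (Spec (CommRingCat.of R)).smallEtaleTopology (Type (u + 1))).obj
        (op (EtCoh.top (Spec (CommRingCat.of R)))) ≅
      (Scheme.pointSmallEtale (Spec.map (CommRingCat.ofHom (IsLocalRing.residue R)))).sheafFiber
        (A := Type (u + 1)) :=
  NatIso.ofComponents (fun F => (Equiv.ofBijective _ (Groth.Agent.S6179.result R F)).toIso)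
    (fun {F G} a => by
      ext s
      exact ((Scheme.pointSmallEtale (Spec.map (CommRingCat.ofHom
        (IsLocalRing.residue R)))).toPresheafFiber_naturality_apply a.hom
          (EtCoh.top (Spec (CommRingCat.of R))) _ s).symm)

/-- The fibre functor at `ξ ≫ f` is the inverse image along `f` followed by the fibre functor at `ξ`. -/
noncomputable def fiberPullIso {X Y : Scheme.{u}} (f : X ⟶ Y) {Ω : Type u} [Field Ω] [IsSepClosed Ω]
    (ξ : Spec (CommRingCat.of Ω) ⟶ X) :
    (Scheme.pointSmallEtale (ξ ≫ f)).sheafFiber (A := Type (u + 1)) ≅
      pullSh f ⋙ (Scheme.pointSmallEtale ξ).sheafFiber (A := Type (u + 1)) :=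
  StalkPull.sheafFiberIsoOfIso (StalkPull.pointIso f ξ).symm (Type (u + 1)) ≪≫
    (Scheme.pointSmallEtale ξ).sheafFiberComapIso (EtCoh.bc f) (EtCoh.coverPreserving_bc f)
      (Type (u + 1))

end K223.FibSec
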