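import Groth.Agent.Sga4A.EtSubm
import Groth.Agent.Etbase.EtSigma
import Groth.Agent.Etbase.FinLiftSch

/-!
# Stalks of direct images of étale sheaves of sets

* `pushStk` : the map `(f_* F)_η → F_ξ` for `ξ ≫ f = η`.
* `pushStk_germ`, `pushStk_mapStk`.
* for `f` finite and `Ω` algebraically closed: `pushStk_injective`, `pushStk_surjective`
  (jointly, over all `ξ` above `η`).
-/

set_option autoImplicit false
universe u

open CategoryTheory CategoryTheory.Limits AlgebraicGeometry Opposite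

namespace K223.FinPush

open EtDesc Groth.Agent.Sga4A.EtStalk Groth.Agent.Etbase

variable {X Y : Scheme.{u}} (f : X ⟶ Y)

/-- A section of `f_* F` over `U` as a section of `F` over `U ×_Y X`. -/
def dn {F : Sh X} {U : Y.Etale} (s : sect ((pushSh f).obj F) U) : sect F ((EtCoh.bc f).obj U) := s

/-- A section of `F` over `U ×_Y X` as a section of `f_* F`. -/
def up {F : Sh X} {U : Y.Etale} (s : sect F ((EtCoh.bc f).obj U)) : sect ((pushSh f).obj F) U := s

theorem dn_up {F : Sh X} {U : Y.Etale} (s : sect F ((EtCoh.bc f).obj U)) : dn f (up f s) = s := rfl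

theorem dn_res {F : Sh X} {U V : Y.Etale} (g : V ⟶ U) (s : sect ((pushSh f).obj F) U) :
    dn f (((pushSh f).obj F).obj.map g.op s) = F.obj.map ((EtCoh.bc f).map g).op (dn f s) := rfl

theorem dn_app {F G : Sh X} (a : F ⟶ G) {U : Y.Etale} (s : sect ((pushSh f).obj F) U) :
    dn f (((pushSh f).map a).hom.app (op U) s) = a.hom.app (op ((EtCoh.bc f).obj U)) (dn f s) := rfl

theorem counit_pullSect (F : Sh X) {U : Y.Etale} (s : sect ((pushSh f).obj F) U) :
    ((adjSh f).counit.app F).hom.app (op ((EtCoh.bc f).obj U)) (pullSect f ((pushSh f).obj F) s) =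
      dn f s := by
  have h := (adjSh f).right_triangle_components F
  exact congrArg (fun (b : (pushSh f).obj F ⟶ (pushSh f).obj F) => b.hom.app (op U) s) h

variable {Ω : Type u} [Field Ω]

section

variable [IsSepClosed Ω]

/-- The map `(f_* F)_η → F_ξ` for a geometric point `ξ` of `X` over `η`. -/
noncomputable def pushStk (F : Sh X) (ξ : Spec (.of Ω) ⟶ X) (η : Spec (.of Ω) ⟶ Y) (h : ξ ≫ f = η)
    (σ : Stk ((pushSh f).obj F) η) : Stk F ξ :=
  mapStk ((adjSh f).counit.app F) ξ (pullStk' f _ ξ η h σ)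

theorem pushStk_germ (F : Sh X) (ξ : Spec (.of Ω) ⟶ X) (η : Spec (.of Ω) ⟶ Y) (h : ξ ≫ f = η)
    {U : Y.Etale} (l : Spec (.of Ω) ⟶ U.left) (hl : l ≫ U.hom = η) (s : sect ((pushSh f).obj F) U) :
    pushStk f F ξ η h (germ ((pushSh f).obj F) l hl s) =
      germ F (bcPt f ξ l (hl.trans h.symm)) (bcPt_hom _ _ _ _) (dn f s) := by
  unfold pushStk
  rw [pullStk'_germ]
  refine (mapStk_germ _ _ _ _).trans ?_
  rw [counit_pullSect]
  rfl

theorem pushStk_mapStk {F G : Sh X} (a : F ⟶ G) (ξ : Spec (.of Ω) ⟶ X) (η : Spec (.of Ω) ⟶ Y)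
    (h : ξ ≫ f = η) (σ : Stk ((pushSh f).obj F) η) :
    pushStk f G ξ η h (mapStk ((pushSh f).map a) η σ) = mapStk a ξ (pushStk f F ξ η h σ) := by
  obtain ⟨U, l, hl, s, rfl⟩ := exists_germ _ σ
  rw [mapStk_germ, pushStk_germ, pushStk_germ, dn_app]
  exact (mapStk_germ _ _ _ _).symm

end

variable [IsAlgClosed Ω]

open FinLiftSch in
theorem pushStk_injective [IsFinite f] (F : Sh X) (η : Spec (.of Ω) ⟶ Y)
    (σ τ : Stk ((pushSh f).obj F) η)
    (h : ∀ (ξ : Spec (.of Ω) ⟶ X) (hξ : ξ ≫ f = η), pushStk f F ξ η hξ σ = pushStk f F ξ η hξ τ) :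
    σ = τ := by
  obtain ⟨U, l, hl, s, t, rfl, rfl⟩ := exists_germ₂ _ σ τ
  simp only [pushStk_germ] at h
  let A : ((EtCoh.bc f).obj U).left.Opens :=
    ⟨agree F (dn f s) (dn f t), isOpen_agree F (dn f s) (dn f t)⟩
  have hmem : ∀ (ξ : Spec (.of Ω) ⟶ X) (hξ : ξ ≫ f = η),
      bcPt f ξ l (hl.trans hξ.symm) default ∈ A := by
    intro ξ hξ
    refine (mem_agree_iff F (dn f s) (dn f t) _).2 ?_
    apply castStk_injective F (bcPt_hom f ξ l (hl.trans hξ.symm))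
    refine (castStk_germ _ _ _ _ _).trans (Eq.trans ?_ (castStk_germ _ _ _ _ _).symm)
    exact h ξ hξ
  choose k hk using fun (ξ : Spec (.of Ω) ⟶ X) (hξ : ξ ≫ f = η) =>
    exists_lift_openEt ((EtCoh.bc f).obj U) A _ (hmem ξ hξ)
  let tt : (Scheme.pointSmallEtale η).fiber.obj U := mkPt l hl
  have hk' : ∀ (ξ : Spec (.of Ω) ⟶ X) (hξ : ξ ≫ f = η),
      k ξ hξ ≫ (openEt ((EtCoh.bc f).obj U) A).hom = ξ := by
    intro ξ hξ
    have h1 := bcPt_hom f ξ l (hl.trans hξ.symm)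
    rw [← hk ξ hξ, Category.assoc] at h1
    refine Eq.trans (congrArg _ ?_) h1
    exact (Over.w (openEtι ((EtCoh.bc f).obj U) A).hom).symm
  obtain ⟨V', g, t', ht', σ, hσ, -⟩ := exists_lift_bc f tt (openEtι ((EtCoh.bc f).obj U) A)
    (fun ξ hξ => mkPt (k ξ hξ) (hk' ξ hξ)) (fun ξ hξ => by
      apply pt_ext
      rw [ptHom_map, ptHom_mkPt, hk]
      rfl)
  refine (germ_eq_iff ((pushSh f).obj F) l hl s t).2 ⟨V', g, ptHom t', ?_, ?_⟩
  · have := congrArg ptHom ht'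
    rw [ptHom_map] at this
    exact this
  · change F.obj.map ((EtCoh.bc f).map g).op (dn f s) = F.obj.map ((EtCoh.bc f).map g).op (dn f t)
    rw [← hσ, op_comp, F.obj.map_comp]
    have h5 : F.obj.map (openEtι ((EtCoh.bc f).obj U) A).op (dn f s) =
        F.obj.map (openEtι ((EtCoh.bc f).obj U) A).op (dn f t) := by
      apply map_eq_of_range_subset
      rw [openEtι_left]
      rintro _ ⟨y, rfl⟩
      exact y.2
    exact congrArg (F.obj.map σ.op) h5

open FinLiftSch in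
theorem pushStk_surjective [IsFinite f] (F : Sh X) (η : Spec (.of Ω) ⟶ Y)
    (σ : ∀ (ξ : Spec (.of Ω) ⟶ X) (_ : ξ ≫ f = η), Stk F ξ) :
    ∃ τ : Stk ((pushSh f).obj F) η, ∀ (ξ : Spec (.of Ω) ⟶ X) (hξ : ξ ≫ f = η),
      pushStk f F ξ η hξ τ = σ ξ hξ := by
  let I := {ξ : Spec (CommRingCat.of Ω) ⟶ X // ξ ≫ f = η}
  choose U l hl s hs using fun (i : I) => exists_germ F (σ i.1 i.2)
  obtain ⟨t, ht⟩ := EtSigma.exists_sect (isSheaf_type F) U s
  let V : Y.Etale := EtCoh.top Y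
  let tt : (Scheme.pointSmallEtale η).fiber.obj V := mkPt η (Category.comp_id _)
  let e : (EtCoh.bc f).obj V ≅ EtCoh.top X := EtCore.bcTopIso f
  let p : EtSigma.sig U ⟶ (EtCoh.bc f).obj V :=
    EtSigma.sdesc U (fun i => (mkHom (V := EtCoh.top X) (U i).hom (Category.comp_id _) : U i ⟶ EtCoh.top X)) ≫ e.inv
  obtain ⟨V', g, t', ht', ρ, hρ, hρ'⟩ := exists_lift_bc f tt p
    (fun ξ hξ => (Scheme.pointSmallEtale ξ).fiber.map (EtSigma.sin U ⟨ξ, hξ⟩)
      (mkPt (l ⟨ξ, hξ⟩) (hl ⟨ξ, hξ⟩))) (fun ξ hξ => by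
      have hpt : ∀ (q : (Scheme.pointSmallEtale ξ).fiber.obj ((EtCoh.bc f).obj V)),
          ptHom q ≫ pr2 f V = ξ := fun q => ptHom_w q
      apply pt_ext
      apply pr_ext
      · rw [lft_pr1]
        have h1 : ∀ (Z : Scheme.{u}) (a b : Z ⟶ V.left), a ≫ V.hom = b ≫ V.hom → a = b := by
          intro Z a b hab
          have : V.hom = 𝟙 Y := rfl
          rw [this] at hab
          exact hab
        apply h1
        rw [Category.assoc, pr_cond, ← Category.assoc, ptHom_w, hpt, hξ]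
      · rw [lft_pr2, hpt])
  refine ⟨germ ((pushSh f).obj F) (ptHom t') (ptHom_w t') (up f (F.obj.map ρ.op t)), ?_⟩
  intro ξ hξ
  rw [pushStk_germ, dn_up, ← hs ⟨ξ, hξ⟩]
  have h2 := congrArg ptHom (hρ' ξ hξ)
  rw [ptHom_map, ptHom_map] at h2
  rw [← ht ⟨ξ, hξ⟩]
  have h3 := germ_res' F (EtSigma.sin U ⟨ξ, hξ⟩) (l ⟨ξ, hξ⟩) (hl ⟨ξ, hξ⟩)
    (l ⟨ξ, hξ⟩ ≫ (EtSigma.sin U ⟨ξ, hξ⟩).left) (by
      rw [Category.assoc, hom_left_w, hl]) rfl t
  rw [h3]
  exact germ_res' F ρ _ _ _ _ h2 t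

end K223.FinPush
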