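import Groth.Agent.Sga4A.EtDescD
import Groth.Agent.Sga4A.PbcSet
import Groth.Agent.EtDesc.K223.FinPush

/-!
# Gluing étale sheaves of sets along a cartesian square (modification squares), I

For a cartesian square `j : E ⟶ X'`, `g : E ⟶ Z`, `f : X' ⟶ X`, `i : Z ⟶ X`, sheaves `F'` on `X'`, `G` on `Z` and an
isomorphism `α : j^* F' ≅ g^* G`: the sheaf of compatible pairs.
-/

set_option autoImplicit false
universe u

open CategoryTheory CategoryTheory.Limits AlgebraicGeometry Opposite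

namespace K223.ModSq

open EtDesc Groth.Agent.Sga4A.EtStalk Groth.Agent

variable {X X' Z E : Scheme.{u}} {f : X' ⟶ X} {i : Z ⟶ X} {j : E ⟶ X'} {g : E ⟶ Z}

section T

variable {F' : Sh X'} {G : Sh Z} (α : (pullSh j).obj F' ≅ (pullSh g).obj G)
  {Ω : Type u} [Field Ω] [IsSepClosed Ω]

/-- The transport of stalks given by `α` at a geometric point of `E`. -/
noncomputable def tE (e : Spec (.of Ω) ⟶ E) (ξ' : Spec (.of Ω) ⟶ X') (ζ : Spec (.of Ω) ⟶ Z)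
    (h₁ : e ≫ j = ξ') (h₂ : e ≫ g = ζ) (σ : Stk F' ξ') : Stk G ζ :=
  (pullStk' g G e ζ h₂).symm (mapStk α.hom e (pullStk' j F' e ξ' h₁ σ))

theorem pullStk'_tE (e : Spec (.of Ω) ⟶ E) (ξ' : Spec (.of Ω) ⟶ X') (ζ : Spec (.of Ω) ⟶ Z)
    (h₁ : e ≫ j = ξ') (h₂ : e ≫ g = ζ) (σ : Stk F' ξ') :
    pullStk' g G e ζ h₂ (tE α e ξ' ζ h₁ h₂ σ) = mapStk α.hom e (pullStk' j F' e ξ' h₁ σ) :=
  Equiv.apply_symm_apply _ _

theorem tE_bijective (e : Spec (.of Ω) ⟶ E) (ξ' : Spec (.of Ω) ⟶ X') (ζ : Spec (.of Ω) ⟶ Z)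
    (h₁ : e ≫ j = ξ') (h₂ : e ≫ g = ζ) : Function.Bijective (tE α e ξ' ζ h₁ h₂) :=
  (Equiv.bijective _).comp ((mapStk_bijective_of_isIso α.hom e).comp (Equiv.bijective _))

variable (c : IsPullback j g f i)

/-- The transport of stalks for a pair of geometric points of `X'` and `Z` over the same point. -/
noncomputable def tt (ξ' : Spec (.of Ω) ⟶ X') (ζ : Spec (.of Ω) ⟶ Z) (w : ξ' ≫ f = ζ ≫ i)
    (σ : Stk F' ξ') : Stk G ζ :=
  tE α (c.lift ξ' ζ w) ξ' ζ (c.lift_fst _ _ _) (c.lift_snd _ _ _) σ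

theorem tE_eq_tt (e : Spec (.of Ω) ⟶ E) (ξ' : Spec (.of Ω) ⟶ X') (ζ : Spec (.of Ω) ⟶ Z)
    (h₁ : e ≫ j = ξ') (h₂ : e ≫ g = ζ) (w : ξ' ≫ f = ζ ≫ i) (σ : Stk F' ξ') :
    tE α e ξ' ζ h₁ h₂ σ = tt α c ξ' ζ w σ := by
  obtain rfl : e = c.lift ξ' ζ w := c.hom_ext (by rw [h₁, c.lift_fst]) (by rw [h₂, c.lift_snd])
  rfl

theorem pullStk'_tt (e : Spec (.of Ω) ⟶ E) (ξ' : Spec (.of Ω) ⟶ X') (ζ : Spec (.of Ω) ⟶ Z)
    (h₁ : e ≫ j = ξ') (h₂ : e ≫ g = ζ) (w : ξ' ≫ f = ζ ≫ i) (σ : Stk F' ξ') :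
    pullStk' g G e ζ h₂ (tt α c ξ' ζ w σ) = mapStk α.hom e (pullStk' j F' e ξ' h₁ σ) := by
  rw [← tE_eq_tt α c e ξ' ζ h₁ h₂ w, pullStk'_tE]

theorem tt_bijective (ξ' : Spec (.of Ω) ⟶ X') (ζ : Spec (.of Ω) ⟶ Z) (w : ξ' ≫ f = ζ ≫ i) :
    Function.Bijective (tt α c ξ' ζ w) := tE_bijective _ _ _ _ _ _

/-- Compatibility of a section of `F'` over `V ×_X X'` and a section of `G` over `V ×_X Z`. -/
def Compat {V : X.Etale} (s : sect F' ((EtCoh.bc f).obj V)) (t : sect G ((EtCoh.bc i).obj V)) : Prop :=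
  ∀ (Ω : Type u) [Field Ω] [IsSepClosed Ω] (m₁ : Spec (.of Ω) ⟶ ((EtCoh.bc f).obj V).left)
    (m₂ : Spec (.of Ω) ⟶ ((EtCoh.bc i).obj V).left) (_ : m₁ ≫ bcFst f V = m₂ ≫ bcFst i V)
    (ξ' : Spec (.of Ω) ⟶ X') (ζ : Spec (.of Ω) ⟶ Z) (w : ξ' ≫ f = ζ ≫ i)
    (h₁ : m₁ ≫ ((EtCoh.bc f).obj V).hom = ξ') (h₂ : m₂ ≫ ((EtCoh.bc i).obj V).hom = ζ),
    tt α c ξ' ζ w (germ F' m₁ h₁ s) = germ G m₂ h₂ t

variable {α c}

theorem Compat.res {V W : X.Etale} {s : sect F' ((EtCoh.bc f).obj V)} {t : sect G ((EtCoh.bc i).obj V)}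
    (h : Compat α c s t) (k : W ⟶ V) :
    Compat α c (F'.obj.map ((EtCoh.bc f).map k).op s) (G.obj.map ((EtCoh.bc i).map k).op t) := by
  intro Ω _ _ m₁ m₂ hm ξ' ζ w h₁ h₂
  rw [germ_res, germ_res]
  refine h Ω _ _ ?_ ξ' ζ w _ _
  rw [Category.assoc, Category.assoc, bc_map_fst, bc_map_fst, reassoc_of% hm]

theorem compat_of_local {V : X.Etale} (s : sect F' ((EtCoh.bc f).obj V)) (t : sect G ((EtCoh.bc i).obj V))
    (h : ∀ x : V.left, ∃ (W : X.Etale) (k : W ⟶ V) (y : W.left), k.left y = x ∧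
      Compat α c (F'.obj.map ((EtCoh.bc f).map k).op s) (G.obj.map ((EtCoh.bc i).map k).op t)) :
    Compat α c s t := by
  intro Ω _ _ m₁ m₂ hm ξ' ζ w h₁ h₂
  obtain ⟨W, k, y, hy, hc⟩ := h ((m₁ ≫ bcFst f V) default)
  obtain ⟨l, hl, -⟩ := exists_lift k (m₁ ≫ bcFst f V) y hy
  have hw : k.left ≫ V.hom = W.hom := Over.w k.hom
  have k₁ : l ≫ W.hom = ξ' ≫ f := by
    rw [← hw, reassoc_of% hl, bc_condition, reassoc_of% h₁]
  have k₂ : l ≫ W.hom = ζ ≫ i := by rw [k₁, w]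
  have j₁ : bcPt f ξ' l k₁ ≫ ((EtCoh.bc f).map k).left = m₁ := by
    apply hom_ext_bc
    · rw [Category.assoc, bc_map_fst, bcPt_fst_assoc, hl]
    · rw [Category.assoc, bc_map_hom, bcPt_hom, h₁]
  have j₂ : bcPt i ζ l k₂ ≫ ((EtCoh.bc i).map k).left = m₂ := by
    apply hom_ext_bc
    · rw [Category.assoc, bc_map_fst, bcPt_fst_assoc, hl, hm]
    · rw [Category.assoc, bc_map_hom, bcPt_hom, h₂]
  have := hc Ω (bcPt f ξ' l k₁) (bcPt i ζ l k₂) (by rw [bcPt_fst, bcPt_fst]) ξ' ζ w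
    (bcPt_hom _ _ _ _) (bcPt_hom _ _ _ _)
  rw [germ_res' F' _ _ _ m₁ h₁ j₁, germ_res' G _ _ _ m₂ h₂ j₂] at this
  exact this

variable (α c)

/-- The presheaf of compatible pairs. -/
noncomputable def dPre : X.Etaleᵒᵖ ⥤ Type (u + 1) where
  obj V := {p : sect F' ((EtCoh.bc f).obj V.unop) × sect G ((EtCoh.bc i).obj V.unop) //
    Compat α c p.1 p.2}
  map {V W} k := ↾(fun p => ⟨(F'.obj.map ((EtCoh.bc f).map k.unop).op p.1.1,
    G.obj.map ((EtCoh.bc i).map k.unop).op p.1.2), p.2.res k.unop⟩)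
  map_id V := by
    ext p
    · exact ConcreteCategory.congr_hom (((pushSh f).obj F').obj.map_id V) p.1.1
    · exact ConcreteCategory.congr_hom (((pushSh i).obj G).obj.map_id V) p.1.2
  map_comp {U V W} a b := by
    ext p
    · exact ConcreteCategory.congr_hom (((pushSh f).obj F').obj.map_comp a b) p.1.1
    · exact ConcreteCategory.congr_hom (((pushSh i).obj G).obj.map_comp a b) p.1.2

theorem isSheaf_dPre : Presieve.IsSheaf X.smallEtaleTopology (dPre α c) := by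
  intro V S hS x hx
  let x₁ : Presieve.FamilyOfElements ((pushSh f).obj F').obj S.arrows := fun W k hk => (x k hk).1.1
  let x₂ : Presieve.FamilyOfElements ((pushSh i).obj G).obj S.arrows := fun W k hk => (x k hk).1.2
  have h₁ : x₁.Compatible := fun Y₁ Y₂ W g₁ g₂ f₁ f₂ k₁ k₂ e =>
    congrArg (fun p => p.1.1) (hx g₁ g₂ k₁ k₂ e)
  have h₂ : x₂.Compatible := fun Y₁ Y₂ W g₁ g₂ f₁ f₂ k₁ k₂ e =>
    congrArg (fun p => p.1.2) (hx g₁ g₂ k₁ k₂ e)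
  obtain ⟨s, hs, hs'⟩ := isSheaf_type ((pushSh f).obj F') S hS x₁ h₁
  obtain ⟨t, ht, ht'⟩ := isSheaf_type ((pushSh i).obj G) S hS x₂ h₂
  have hst : Compat α c (V := V) s t := by
    apply compat_of_local
    intro y
    rw [Etbase.EtSite.mem_iff] at hS
    obtain ⟨W, k, z, hk, hz⟩ := hS y
    refine ⟨W, k, z, hz, ?_⟩
    have e₁ : F'.obj.map ((EtCoh.bc f).map k).op s = (x k hk).1.1 := hs k hk
    have e₂ : G.obj.map ((EtCoh.bc i).map k).op t = (x k hk).1.2 := ht k hk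
    rw [e₁, e₂]
    exact (x k hk).2
  refine ⟨⟨(s, t), hst⟩, fun W k hk => Subtype.ext (Prod.ext (hs k hk) (ht k hk)), ?_⟩
  intro p hp
  apply Subtype.ext
  apply Prod.ext
  · exact hs' p.1.1 fun W k hk => congrArg (fun p => p.1.1) (hp k hk)
  · exact ht' p.1.2 fun W k hk => congrArg (fun p => p.1.2) (hp k hk)

/-- The sheaf of compatible pairs. -/
noncomputable def dSh : Sh X :=
  ⟨dPre α c, (isSheaf_iff_isSheaf_of_type _ _).2 (isSheaf_dPre α c)⟩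

/-- The pair attached to a section. -/
noncomputable def dFst {V : X.Etale} (p : sect (dSh α c) V) : sect F' ((EtCoh.bc f).obj V) := p.1.1

noncomputable def dSnd {V : X.Etale} (p : sect (dSh α c) V) : sect G ((EtCoh.bc i).obj V) := p.1.2

theorem compat_d {V : X.Etale} (p : sect (dSh α c) V) : Compat α c (dFst α c p) (dSnd α c p) := p.2

noncomputable def dMk {V : X.Etale} (s : sect F' ((EtCoh.bc f).obj V)) (t : sect G ((EtCoh.bc i).obj V))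
    (h : Compat α c s t) : sect (dSh α c) V := ⟨(s, t), h⟩

theorem dFst_dMk {V : X.Etale} (s : sect F' ((EtCoh.bc f).obj V)) (t : sect G ((EtCoh.bc i).obj V))
    (h : Compat α c s t) : dFst α c (dMk α c s t h) = s := rfl

theorem dSnd_dMk {V : X.Etale} (s : sect F' ((EtCoh.bc f).obj V)) (t : sect G ((EtCoh.bc i).obj V))
    (h : Compat α c s t) : dSnd α c (dMk α c s t h) = t := rfl

theorem d_ext {V : X.Etale} {p q : sect (dSh α c) V} (h₁ : dFst α c p = dFst α c q)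
    (h₂ : dSnd α c p = dSnd α c q) : p = q := Subtype.ext (Prod.ext h₁ h₂)

theorem dFst_res {V W : X.Etale} (k : W ⟶ V) (p : sect (dSh α c) V) :
    dFst α c ((dSh α c).obj.map k.op p) = F'.obj.map ((EtCoh.bc f).map k).op (dFst α c p) := rfl

theorem dSnd_res {V W : X.Etale} (k : W ⟶ V) (p : sect (dSh α c) V) :
    dSnd α c ((dSh α c).obj.map k.op p) = G.obj.map ((EtCoh.bc i).map k).op (dSnd α c p) := rfl

/-- First projection. -/
noncomputable def p₁ : dSh α c ⟶ (pushSh f).obj F' :=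
  ⟨{ app := fun V => ↾(fun p => (p.1.1 : F'.obj.obj (op ((EtCoh.bc f).obj V.unop))))
     naturality := fun _ _ _ => rfl }⟩

/-- Second projection. -/
noncomputable def p₂ : dSh α c ⟶ (pushSh i).obj G :=
  ⟨{ app := fun V => ↾(fun p => (p.1.2 : G.obj.obj (op ((EtCoh.bc i).obj V.unop))))
     naturality := fun _ _ _ => rfl }⟩

/-- `f^* D ⟶ F'`. -/
noncomputable def βm : (pullSh f).obj (dSh α c) ⟶ F' := ((adjSh f).homEquiv _ _).symm (p₁ α c)

/-- `i^* D ⟶ G`. -/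
noncomputable def γm : (pullSh i).obj (dSh α c) ⟶ G := ((adjSh i).homEquiv _ _).symm (p₂ α c)

theorem βm_pullSect {V : X.Etale} (p : sect (dSh α c) V) :
    (βm α c).hom.app (op ((EtCoh.bc f).obj V)) (pullSect f _ p) = dFst α c p := by
  have h : (adjSh f).unit.app _ ≫ (pushSh f).map (βm α c) = p₁ α c :=
    ((adjSh f).homEquiv_unit (dSh α c) F' (βm α c)).symm.trans (Equiv.apply_symm_apply _ _)
  exact congrArg (fun (a : dSh α c ⟶ (pushSh f).obj F') => a.hom.app (op V) p) h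

theorem γm_pullSect {V : X.Etale} (p : sect (dSh α c) V) :
    (γm α c).hom.app (op ((EtCoh.bc i).obj V)) (pullSect i _ p) = dSnd α c p := by
  have h : (adjSh i).unit.app _ ≫ (pushSh i).map (γm α c) = p₂ α c :=
    ((adjSh i).homEquiv_unit (dSh α c) G (γm α c)).symm.trans (Equiv.apply_symm_apply _ _)
  exact congrArg (fun (a : dSh α c ⟶ (pushSh i).obj G) => a.hom.app (op V) p) h

theorem mapStk_βm (ξ' : Spec (.of Ω) ⟶ X') (ξ : Spec (.of Ω) ⟶ X) (h : ξ' ≫ f = ξ)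
    {V : X.Etale} (l : Spec (.of Ω) ⟶ V.left) (hl : l ≫ V.hom = ξ) (p : sect (dSh α c) V) :
    mapStk (βm α c) ξ' (pullStk' f _ ξ' ξ h (germ _ l hl p)) =
      germ F' (bcPt f ξ' l (hl.trans h.symm)) (bcPt_hom _ _ _ _) (dFst α c p) := by
  rw [pullStk'_germ, mapStk_germ, βm_pullSect]

theorem mapStk_γm (ζ : Spec (.of Ω) ⟶ Z) (ξ : Spec (.of Ω) ⟶ X) (h : ζ ≫ i = ξ)
    {V : X.Etale} (l : Spec (.of Ω) ⟶ V.left) (hl : l ≫ V.hom = ξ) (p : sect (dSh α c) V) :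
    mapStk (γm α c) ζ (pullStk' i _ ζ ξ h (germ _ l hl p)) =
      germ G (bcPt i ζ l (hl.trans h.symm)) (bcPt_hom _ _ _ _) (dSnd α c p) := by
  rw [pullStk'_germ, mapStk_germ, γm_pullSect]

/-- The two maps are compatible with `α`, on stalks. -/
theorem tt_mapStk_βm (ξ' : Spec (.of Ω) ⟶ X') (ζ : Spec (.of Ω) ⟶ Z) (ξ : Spec (.of Ω) ⟶ X)
    (w : ξ' ≫ f = ζ ≫ i) (h : ξ' ≫ f = ξ) (h' : ζ ≫ i = ξ) (σ : Stk (dSh α c) ξ) :
    tt α c ξ' ζ w (mapStk (βm α c) ξ' (pullStk' f _ ξ' ξ h σ)) =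
      mapStk (γm α c) ζ (pullStk' i _ ζ ξ h' σ) := by
  obtain ⟨V, l, hl, p, rfl⟩ := exists_germ _ σ
  rw [mapStk_βm, mapStk_γm]
  exact compat_d α c p Ω _ _ (by rw [bcPt_fst, bcPt_fst]) ξ' ζ w _ _

end T

end K223.ModSq
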