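import Groth.Agent.EtDesc.K223.ModSqA

/-!
# Gluing étale sheaves of sets along a cartesian square (modification squares), II: stalks over `Z`
-/

set_option autoImplicit false
universe u

open CategoryTheory CategoryTheory.Limits AlgebraicGeometry Opposite

namespace K223.ModSq

open EtDesc Groth.Agent.Sga4A.EtStalk Groth.Agent Groth.Agent.Sga4A.PbcSet

section Lift

variable {X Y : Scheme.{u}} (f : X ⟶ Y)

/-- Morphisms to `U ×_Y X`. -/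
noncomputable def bcLift {U : Y.Etale} {T : Scheme.{u}} (a : T ⟶ U.left) (b : T ⟶ X)
    (h : a ≫ U.hom = b ≫ f) : T ⟶ ((EtCoh.bc f).obj U).left := pullback.lift a b h

@[reassoc (attr := simp)]
theorem bcLift_fst {U : Y.Etale} {T : Scheme.{u}} (a : T ⟶ U.left) (b : T ⟶ X)
    (h : a ≫ U.hom = b ≫ f) : bcLift f a b h ≫ bcFst f U = a := pullback.lift_fst _ _ _

@[reassoc (attr := simp)]
theorem bcLift_hom {U : Y.Etale} {T : Scheme.{u}} (a : T ⟶ U.left) (b : T ⟶ X)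
    (h : a ≫ U.hom = b ≫ f) : bcLift f a b h ≫ ((EtCoh.bc f).obj U).hom = b := pullback.lift_snd _ _ _

end Lift

section Fam

variable {X' Z E W : Scheme.{u}} {j : E ⟶ X'} {g : E ⟶ Z} {F' : Sh X'} {G : Sh Z}
  (α : (pullSh j).obj F' ≅ (pullSh g).obj G)

/-- Transport of families. -/
noncomputable def trE (e : W ⟶ E) (γ : Fam F' (e ≫ j)) : Fam G (e ≫ g) :=
  ((Fam.toPull (g := j) γ).map α.hom).fromPull

theorem trE_val (e : W ⟶ E) (γ : Fam F' (e ≫ j)) {Ω : Type u} [Field Ω] [IsSepClosed Ω]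
    (η : Spec (.of Ω) ⟶ W) (e₀ : Spec (.of Ω) ⟶ E) (he : η ≫ e = e₀)
    (ξ' : Spec (.of Ω) ⟶ X') (ζ : Spec (.of Ω) ⟶ Z) (h₁ : e₀ ≫ j = ξ') (h₂ : e₀ ≫ g = ζ)
    (k₁ : η ≫ e ≫ j = ξ') (k₂ : η ≫ e ≫ g = ζ) :
    (trE α e γ).val η ζ k₂ = tE α e₀ ξ' ζ h₁ h₂ (γ.val η ξ' k₁) := by
  unfold trE
  rw [Fam.fromPull_val _ η e₀ ζ he h₂ k₂, Fam.map_val, Fam.toPull_val γ η e₀ ξ' he h₁ k₁]
  rfl

theorem tE_symm {Ω : Type u} [Field Ω] [IsSepClosed Ω] (e : Spec (.of Ω) ⟶ E)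
    (ξ' : Spec (.of Ω) ⟶ X') (ζ : Spec (.of Ω) ⟶ Z) (h₁ : e ≫ j = ξ') (h₂ : e ≫ g = ζ)
    (τ : Stk G ζ) : tE α e ξ' ζ h₁ h₂ (tE α.symm e ζ ξ' h₂ h₁ τ) = τ := by
  apply (pullStk' g G e ζ h₂).injective
  rw [pullStk'_tE, pullStk'_tE, ← mapStk_comp]
  simp

end Fam

variable {X X' Z E : Scheme.{u}} {f : X' ⟶ X} {i : Z ⟶ X} {j : E ⟶ X'} {g : E ⟶ Z}
  {F' : Sh X'} {G : Sh Z} (α : (pullSh j).obj F' ≅ (pullSh g).obj G) (c : IsPullback j g f i)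

section Agree

variable {V : X.Etale} (s : sect F' ((EtCoh.bc f).obj V)) (t : sect G ((EtCoh.bc i).obj V))

include c in
theorem bcw₂ (V : X.Etale) : bcFst (j ≫ f) V ≫ V.hom = (((EtCoh.bc (j ≫ f)).obj V).hom ≫ g) ≫ i := by
  rw [bc_condition, Category.assoc, c.w]

/-- `V ×_X E ⟶ V ×_X X'`. -/
noncomputable def w₁ (V : X.Etale) : ((EtCoh.bc (j ≫ f)).obj V).left ⟶ ((EtCoh.bc f).obj V).left :=
  bcLift f (bcFst (j ≫ f) V) (((EtCoh.bc (j ≫ f)).obj V).hom ≫ j)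
    (by rw [bc_condition, Category.assoc])

/-- `V ×_X E ⟶ V ×_X Z`. -/
noncomputable def w₂ (V : X.Etale) : ((EtCoh.bc (j ≫ f)).obj V).left ⟶ ((EtCoh.bc i).obj V).left :=
  bcLift i (bcFst (j ≫ f) V) (((EtCoh.bc (j ≫ f)).obj V).hom ≫ g) (bcw₂ c V)

/-- The family of `G` along `V ×_X E ⟶ Z` attached to a section of `F'`. -/
noncomputable def fam₁ : Fam G (((EtCoh.bc (j ≫ f)).obj V).hom ≫ g) :=
  trE α _ (((Fam.ofSect s).pull (w₁ V)).congr (bcLift_hom _ _ _ _))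

/-- The family of `G` along `V ×_X E ⟶ Z` attached to a section of `G`. -/
noncomputable def fam₂ : Fam G (((EtCoh.bc (j ≫ f)).obj V).hom ≫ g) :=
  ((Fam.ofSect t).pull (w₂ c V)).congr (bcLift_hom _ _ _ _)

variable {Ω : Type u} [Field Ω] [IsSepClosed Ω]

theorem mem_agree (η : Spec (.of Ω) ⟶ ((EtCoh.bc (j ≫ f)).obj V).left)
    (ξ' : Spec (.of Ω) ⟶ X') (ζ : Spec (.of Ω) ⟶ Z) (w : ξ' ≫ f = ζ ≫ i)
    (h₁ : (η ≫ ((EtCoh.bc (j ≫ f)).obj V).hom) ≫ j = ξ')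
    (h₂ : (η ≫ ((EtCoh.bc (j ≫ f)).obj V).hom) ≫ g = ζ)
    (m₁ : Spec (.of Ω) ⟶ ((EtCoh.bc f).obj V).left) (hm₁ : m₁ ≫ ((EtCoh.bc f).obj V).hom = ξ')
    (m₂ : Spec (.of Ω) ⟶ ((EtCoh.bc i).obj V).left) (hm₂ : m₂ ≫ ((EtCoh.bc i).obj V).hom = ζ)
    (k₁ : m₁ ≫ bcFst f V = η ≫ bcFst (j ≫ f) V) (k₂ : m₂ ≫ bcFst i V = η ≫ bcFst (j ≫ f) V) :
    η default ∈ Fam.Agree (fam₁ α s) (fam₂ c t) ↔
      tt α c ξ' ζ w (germ F' m₁ hm₁ s) = germ G m₂ hm₂ t := by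
  have e₁ : η ≫ w₁ V = m₁ := by
    apply hom_ext_bc
    · rw [k₁, w₁, Category.assoc, bcLift_fst]
    · rw [hm₁, w₁, Category.assoc, bcLift_hom, ← h₁, Category.assoc]
  have e₂ : η ≫ w₂ c V = m₂ := by
    apply hom_ext_bc
    · rw [k₂, w₂, Category.assoc, bcLift_fst]
    · rw [hm₂, w₂, Category.assoc, bcLift_hom, ← h₂, Category.assoc]
  have e₃ : η ≫ ((EtCoh.bc (j ≫ f)).obj V).hom ≫ g = ζ := by rw [← h₂, Category.assoc]
  have e₄ : η ≫ ((EtCoh.bc (j ≫ f)).obj V).hom ≫ j = ξ' := by rw [← h₁, Category.assoc]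
  rw [Fam.mem_agree_iff (fam₁ α s) (fam₂ c t) η ζ e₃]
  have v₁ : (fam₁ α s).val η ζ e₃ = tt α c ξ' ζ w (germ F' m₁ hm₁ s) := by
    unfold fam₁
    rw [trE_val α _ _ η _ rfl ξ' ζ h₁ h₂ e₄ e₃, tE_eq_tt α c _ ξ' ζ h₁ h₂ w]
    refine congrArg (tt α c ξ' ζ w) ((Fam.congr_val _ _ _ _ _).trans ?_)
    exact (Fam.ofSect s).val_congr e₁ ξ' _ _
  have v₂ : (fam₂ c t).val η ζ e₃ = germ G m₂ hm₂ t := by
    unfold fam₂
    refine (Fam.congr_val _ _ _ _ _).trans ?_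
    exact (Fam.ofSect t).val_congr e₂ ζ _ _
  rw [v₁, v₂]

theorem compat_res_of_agree {V' : X.Etale} (k : V' ⟶ V)
    (h : Set.range ((EtCoh.bc (j ≫ f)).map k).left ⊆ Fam.Agree (fam₁ α s) (fam₂ c t)) :
    Compat α c (F'.obj.map ((EtCoh.bc f).map k).op s) (G.obj.map ((EtCoh.bc i).map k).op t) := by
  intro Ω _ _ m₁ m₂ hm ξ' ζ w h₁ h₂
  rw [germ_res, germ_res]
  have he : (m₁ ≫ bcFst f V') ≫ V'.hom = c.lift ξ' ζ w ≫ (j ≫ f) := by
    rw [← Category.assoc, c.lift_fst, Category.assoc, bc_condition, ← Category.assoc, h₁]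
  let η' : Spec (.of Ω) ⟶ ((EtCoh.bc (j ≫ f)).obj V').left :=
    bcLift (j ≫ f) (m₁ ≫ bcFst f V') (c.lift ξ' ζ w) he
  have hh : (η' ≫ ((EtCoh.bc (j ≫ f)).map k).left) ≫ ((EtCoh.bc (j ≫ f)).obj V).hom =
      c.lift ξ' ζ w := by rw [Category.assoc, bc_map_hom, bcLift_hom]
  refine (mem_agree α c s t (η' ≫ ((EtCoh.bc (j ≫ f)).map k).left) ξ' ζ w ?_ ?_ _ _ _ _ ?_ ?_).1
    (h ⟨η' default, rfl⟩)
  · rw [hh, c.lift_fst]
  · rw [hh, c.lift_snd]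
  · rw [Category.assoc, Category.assoc, bc_map_fst, bc_map_fst, bcLift_fst_assoc, Category.assoc]
  · rw [Category.assoc, Category.assoc, bc_map_fst, bc_map_fst, bcLift_fst_assoc, hm,
      Category.assoc]

end Agree

section Shrink

variable {Ω : Type u} [Field Ω]

theorem exists_shrink₂ [UniversallyClosed f] [UniversallyClosed i] {ξ : Spec (.of Ω) ⟶ X}
    {V : X.Etale} (l : Spec (.of Ω) ⟶ V.left) (hl : l ≫ V.hom = ξ)
    (A₁ : Set ((EtCoh.bc f).obj V).left) (hA₁ : IsOpen A₁) (h₁ : ∀ w, bcFst f V w = l default → w ∈ A₁)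
    (A₂ : Set ((EtCoh.bc i).obj V).left) (hA₂ : IsOpen A₂) (h₂ : ∀ w, bcFst i V w = l default → w ∈ A₂) :
    ∃ (V' : X.Etale) (k : V' ⟶ V) (l' : Spec (.of Ω) ⟶ V'.left), l' ≫ k.left = l ∧ l' ≫ V'.hom = ξ ∧
      Set.range ((EtCoh.bc f).map k).left ⊆ A₁ ∧ Set.range ((EtCoh.bc i).map k).left ⊆ A₂ := by
  obtain ⟨V₁, k₁, l₁, hl₁, hk₁⟩ := exists_shrink f l A₁ hA₁ h₁
  obtain ⟨V₂, k₂, l₂, hl₂, hk₂⟩ := exists_shrink i l₁ (((EtCoh.bc i).map k₁).left ⁻¹' A₂)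
    (hA₂.preimage ((EtCoh.bc i).map k₁).left.continuous) (by
      intro w hw
      apply h₂
      have e1 : bcFst i V (((EtCoh.bc i).map k₁).left w) = k₁.left (bcFst i V₁ w) := by
        rw [← Scheme.Hom.comp_apply, bc_map_fst, Scheme.Hom.comp_apply]
      rw [e1, hw, ← hl₁]
      rfl)
  refine ⟨V₂, k₂ ≫ k₁, l₂, ?_, ?_, ?_, ?_⟩
  · rw [← hl₁, ← hl₂]; exact (Category.assoc _ _ _).symm
  · rw [← hl, ← hl₁, ← hl₂, Category.assoc, Category.assoc]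
    refine congrArg (l₂ ≫ ·) ?_
    have e1 : k₁.left ≫ V.hom = V₁.hom := Over.w k₁.hom
    have e2 : k₂.left ≫ V₁.hom = V₂.hom := Over.w k₂.hom
    rw [e1, e2]
  · rintro _ ⟨y, rfl⟩
    apply hk₁
    refine ⟨((EtCoh.bc f).map k₂).left y, ?_⟩
    rw [(EtCoh.bc f).map_comp]
    rfl
  · rintro _ ⟨y, rfl⟩
    have := hk₂ ⟨y, rfl⟩
    rw [(EtCoh.bc i).map_comp]
    exact this

variable [IsSepClosed Ω]

theorem germ_d_eq [UniversallyClosed f] [UniversallyClosed i] {ξ : Spec (.of Ω) ⟶ X}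
    {V : X.Etale} (l : Spec (.of Ω) ⟶ V.left) (hl : l ≫ V.hom = ξ) (p q : sect (dSh α c) V)
    (h₁ : ∀ w, bcFst f V w = l default → w ∈ agree F' (dFst α c p) (dFst α c q))
    (h₂ : ∀ w, bcFst i V w = l default → w ∈ agree G (dSnd α c p) (dSnd α c q)) :
    germ (dSh α c) l hl p = germ (dSh α c) l hl q := by
  obtain ⟨V', k, l', hl', -, hk₁, hk₂⟩ := exists_shrink₂ l hl _ (isOpen_agree F' _ _) h₁ _
    (isOpen_agree G _ _) h₂
  refine (germ_eq_iff (dSh α c) l hl p q).2 ⟨V', k, l', hl', ?_⟩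
  apply d_ext α c
  · rw [dFst_res, dFst_res]
    exact map_eq_of_range_subset _ _ _ _ hk₁
  · rw [dSnd_res, dSnd_res]
    exact map_eq_of_range_subset _ _ _ _ hk₂

end Shrink

section Gamma

variable {Ω : Type u} [Field Ω] [IsSepClosed Ω]

theorem bcFst_injective [IsClosedImmersion i] (V : X.Etale) : Function.Injective (bcFst i V) := by
  have h : IsClosedImmersion (pullback.fst V.hom i) := inferInstance
  have h2 : IsClosedImmersion (bcFst i V) := h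
  exact (bcFst i V).isClosedEmbedding.injective

theorem γ_inj [UniversallyClosed f] [IsClosedImmersion i] (ζ : Spec (.of Ω) ⟶ Z) :
    Function.Injective (mapStk (γm α c) ζ) := by
  intro σ' τ' h
  obtain ⟨σ, rfl⟩ := (pullStk' i _ ζ (ζ ≫ i) rfl).surjective σ'
  obtain ⟨τ, rfl⟩ := (pullStk' i _ ζ (ζ ≫ i) rfl).surjective τ'
  obtain ⟨V, l, hl, p, q, rfl, rfl⟩ := exists_germ₂ _ σ τ
  rw [mapStk_γm, mapStk_γm] at h
  congr 1
  have hZ : ∀ w, bcFst i V w = l default → w ∈ agree G (dSnd α c p) (dSnd α c q) := by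
    intro w hw
    have e1 : w = bcPt i ζ l hl default := by
      apply bcFst_injective (i := i) V
      rw [hw, ← Scheme.Hom.comp_apply, bcPt_fst]
    rw [e1, mem_agree_iff' G _ _ _ (bcPt_hom i ζ l hl)]
    exact h
  refine germ_d_eq α c l hl p q ?_ hZ
  intro w hw
  obtain ⟨Ω', _, _, β, η, rfl, hη⟩ := exists_geom_over (bcFst f V) l w hw
  have k1 : (η ≫ ((EtCoh.bc f).obj V).hom) ≫ f = (β ≫ ζ) ≫ i := by
    rw [Category.assoc, ← bc_condition, reassoc_of% hη, hl, Category.assoc]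
  have k2 : (β ≫ l) ≫ V.hom = (β ≫ ζ) ≫ i := by rw [Category.assoc, hl, Category.assoc]
  have k3 : η ≫ bcFst f V = bcPt i (β ≫ ζ) (β ≫ l) k2 ≫ bcFst i V := by rw [hη, bcPt_fst]
  have cp := compat_d α c p Ω' η (bcPt i (β ≫ ζ) (β ≫ l) k2) k3 _ (β ≫ ζ) k1 rfl (bcPt_hom _ _ _ _)
  have cq := compat_d α c q Ω' η (bcPt i (β ≫ ζ) (β ≫ l) k2) k3 _ (β ≫ ζ) k1 rfl (bcPt_hom _ _ _ _)
  rw [mem_agree_iff F' _ _ η]
  apply (tt_bijective α c _ (β ≫ ζ) k1).1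
  rw [cp, cq]
  have e2 : bcPt i (β ≫ ζ) (β ≫ l) k2 = β ≫ bcPt i ζ l hl := by
    apply hom_ext_bc
    · rw [bcPt_fst, Category.assoc, bcPt_fst]
    · rw [bcPt_hom, Category.assoc, bcPt_hom]
  have e3 : ∀ (t : sect G ((EtCoh.bc i).obj V)),
      germ G (bcPt i (β ≫ ζ) (β ≫ l) k2) (bcPt_hom _ _ _ _) t =
        extStk G β ζ (β ≫ ζ) rfl (germ G (bcPt i ζ l hl) (bcPt_hom _ _ _ _) t) := by
    intro t
    rw [extStk_germ]
    congr 1
  rw [e3, e3, h]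

theorem γ_surj [UniversallyClosed f] (hBC : BCsurj f) [IsClosedImmersion i] [IsAlgClosed Ω]
    (ζ : Spec (.of Ω) ⟶ Z) : Function.Surjective (mapStk (γm α c) ζ) := by
  intro τ
  obtain ⟨τ', hτ'⟩ := FinPush.pushStk_surjective i G (ζ ≫ i)
    (fun ξ hξ => castStk G ((cancel_mono i).1 hξ).symm τ)
  have h0 : FinPush.pushStk i G ζ (ζ ≫ i) rfl τ' = τ := hτ' ζ rfl
  obtain ⟨V₁, l₁, hl₁, t₀, rfl⟩ := exists_germ _ τ'
  rw [FinPush.pushStk_germ] at h0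
  let t₁ : sect G ((EtCoh.bc i).obj V₁) := FinPush.dn i t₀
  have h0' : germ G (bcPt i ζ l₁ hl₁) (bcPt_hom _ _ _ _) t₁ = τ := h0
  let pr := pullback.fst f (ζ ≫ i)
  let pΩ := pullback.snd f (ζ ≫ i)
  have hpr : pr ≫ f = (pΩ ≫ ζ) ≫ i := by
    rw [Category.assoc]; exact pullback.condition
  let ε : pullback f (ζ ≫ i) ⟶ E := c.lift pr (pΩ ≫ ζ) hpr
  have hε₁ : ε ≫ j = pr := c.lift_fst _ _ _
  have hε₂ : ε ≫ g = pΩ ≫ ζ := c.lift_snd _ _ _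
  let κ : pullback f (ζ ≫ i) ⟶ ((EtCoh.bc i).obj V₁).left :=
    bcLift i (pΩ ≫ l₁) (pΩ ≫ ζ) (by rw [Category.assoc, hl₁, Category.assoc])
  have hκ : κ ≫ ((EtCoh.bc i).obj V₁).hom = ε ≫ g := by rw [hε₂]; exact bcLift_hom _ _ _ _
  let γ₀ : Fam G (ε ≫ g) := ((Fam.ofSect t₁).pull κ).congr hκ
  let γ : Fam F' pr := (trE α.symm ε γ₀).congr hε₁
  obtain ⟨V₂, l₂, hl₂, b, hb⟩ := hBC F' Ω (ζ ≫ i) γ
  obtain ⟨V₃, a, b', l₃, hl₃, ha, hb'⟩ := exists_common_nhd l₁ hl₁ l₂ hl₂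
  let s : sect F' ((EtCoh.bc f).obj V₃) := F'.obj.map ((EtCoh.bc f).map b').op b
  let t : sect G ((EtCoh.bc i).obj V₃) := G.obj.map ((EtCoh.bc i).map a).op t₁
  have hj : UniversallyClosed j := by
    have : IsClosedImmersion j := MorphismProperty.of_isPullback (P := @IsClosedImmersion) c.flip ‹_›
    infer_instance
  have hjf : UniversallyClosed (j ≫ f) := inferInstance
  obtain ⟨V₄, k, l₄, hl₄, hW⟩ := exists_shrink (j ≫ f) l₃ (Fam.Agree (fam₁ α s) (fam₂ c t))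
    (Fam.isOpen_Agree _ _) (by
      intro w hw
      obtain ⟨Ω', _, _, β, η, rfl, hη⟩ := exists_geom_over (bcFst (j ≫ f) V₃) l₃ w hw
      let e := η ≫ ((EtCoh.bc (j ≫ f)).obj V₃).hom
      have he : e ≫ (j ≫ f) = β ≫ ζ ≫ i := by
        change (η ≫ ((EtCoh.bc (j ≫ f)).obj V₃).hom) ≫ (j ≫ f) = _
        rw [Category.assoc, ← bc_condition, reassoc_of% hη, hl₃]
      have hζ : e ≫ g = β ≫ ζ := by
        rw [← cancel_mono i, Category.assoc, ← c.w, he, Category.assoc]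
      have hξ : (e ≫ j) ≫ f = β ≫ ζ ≫ i := by rw [Category.assoc, he]
      have hww : (e ≫ j) ≫ f = (β ≫ ζ) ≫ i := by rw [hξ, Category.assoc]
      have q₁ : (β ≫ l₃) ≫ V₃.hom = (e ≫ j) ≫ f := by rw [Category.assoc, hl₃, hξ]
      have q₂ : (β ≫ l₃) ≫ V₃.hom = (β ≫ ζ) ≫ i := by rw [Category.assoc, hl₃, Category.assoc]
      refine (mem_agree α c s t η (e ≫ j) (β ≫ ζ) hww rfl hζ
        (bcPt f (e ≫ j) (β ≫ l₃) q₁) (bcPt_hom _ _ _ _) (bcPt i (β ≫ ζ) (β ≫ l₃) q₂)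
        (bcPt_hom _ _ _ _) (by rw [bcPt_fst, hη]) (by rw [bcPt_fst, hη])).2 ?_
      -- the point of the geometric fibre
      let y : Spec (.of Ω') ⟶ pullback f (ζ ≫ i) := pullback.lift (e ≫ j) β hξ
      have hy₁ : y ≫ pr = e ≫ j := pullback.lift_fst _ _ _
      have hy₂ : y ≫ pΩ = β := pullback.lift_snd _ _ _
      have hyε : y ≫ ε = e := by
        apply c.hom_ext
        · rw [Category.assoc, hε₁, hy₁]
        · rw [Category.assoc, hε₂, ← Category.assoc, hy₂, hζ]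
      have q₃ : (y ≫ pΩ ≫ l₂) ≫ V₂.hom = (e ≫ j) ≫ f := by
        rw [← Category.assoc y, hy₂, Category.assoc, hl₂, hξ]
      have c1 := hb y (e ≫ j) hy₁ q₃
      have c2 : germ F' (bcPt f (e ≫ j) (β ≫ l₃) q₁) (bcPt_hom _ _ _ _) s = γ.val y (e ≫ j) hy₁ := by
        rw [c1]
        refine germ_res' F' ((EtCoh.bc f).map b') _ _ _ _ ?_ b
        apply hom_ext_bc
        · rw [Category.assoc, bc_map_fst, bcPt_fst_assoc, bcPt_fst, Category.assoc, hb',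
            ← Category.assoc y, hy₂]
        · rw [Category.assoc, bc_map_hom, bcPt_hom, bcPt_hom]
      have e₃ : y ≫ ε ≫ g = β ≫ ζ := by rw [reassoc_of% hyε, hζ]
      have e₄ : y ≫ ε ≫ j = e ≫ j := by rw [reassoc_of% hyε]
      have c3 : γ.val y (e ≫ j) hy₁ = tE α.symm e (β ≫ ζ) (e ≫ j) hζ rfl (γ₀.val y (β ≫ ζ) e₃) := by
        rw [Fam.congr_val]
        exact trE_val α.symm ε γ₀ y e hyε (β ≫ ζ) (e ≫ j) hζ rfl e₃ e₄
      rw [c2, c3, ← tE_eq_tt α c e (e ≫ j) (β ≫ ζ) rfl hζ hww, tE_symm]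
      have c4 : γ₀.val y (β ≫ ζ) e₃ = germ G (y ≫ κ) (by rw [Category.assoc, hκ, e₃]) t₁ :=
        Fam.congr_val _ _ _ _ _
      rw [c4]
      refine (germ_res' G ((EtCoh.bc i).map a) _ _ _ _ ?_ t₁).symm
      apply hom_ext_bc
      · rw [Category.assoc, bc_map_fst, bcPt_fst_assoc, Category.assoc, ha, Category.assoc,
          bcLift_fst, ← Category.assoc y, hy₂]
      · rw [Category.assoc, bc_map_hom, bcPt_hom, Category.assoc, bcLift_hom, ← Category.assoc y, hy₂])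
  have hl₄' : l₄ ≫ V₄.hom = ζ ≫ i := by
    rw [← hl₃, ← hl₄, Category.assoc]
    exact congrArg (l₄ ≫ ·) (Over.w k.hom).symm
  refine ⟨pullStk' i _ ζ (ζ ≫ i) rfl (germ _ l₄ hl₄' (dMk α c _ _
    (compat_res_of_agree α c s t k hW))), ?_⟩
  rw [mapStk_γm, dSnd_dMk, ← h0']
  refine (germ_res' G ((EtCoh.bc i).map k) _ _ (bcPt i ζ l₃ hl₃) (bcPt_hom _ _ _ _) ?_ t).trans ?_
  · apply hom_ext_bc
    · rw [Category.assoc, bc_map_fst, bcPt_fst_assoc, bcPt_fst, hl₄]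
    · rw [Category.assoc, bc_map_hom, bcPt_hom, bcPt_hom]
  · refine germ_res' G ((EtCoh.bc i).map a) _ _ _ _ ?_ t₁
    apply hom_ext_bc
    · rw [Category.assoc, bc_map_fst, bcPt_fst_assoc, bcPt_fst, ha]
    · rw [Category.assoc, bc_map_hom, bcPt_hom, bcPt_hom]

end Gamma

end K223.ModSq
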