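import Groth.Agent.EtDesc.K223.ModSqB
import Groth.Agent.Etcore.OpenClosed

/-!
# Gluing étale sheaves of sets along a cartesian square (modification squares), III
-/

set_option autoImplicit false
universe u

open CategoryTheory CategoryTheory.Limits AlgebraicGeometry Opposite

namespace K223.ModSq

open EtDesc Groth.Agent.Sga4A.EtStalk Groth.Agent Groth.Agent.Sga4A.PbcSet

section Can

variable {X X' Z E : Scheme.{u}} {f : X' ⟶ X} {i : Z ⟶ X} {j : E ⟶ X'} {g : E ⟶ Z}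

/-- The canonical isomorphism `j^* f^* F ≅ g^* i^* F`. -/
noncomputable abbrev canE (w : j ≫ f = g ≫ i) (F : Sh X) :
    (pullSh j).obj ((pullSh f).obj F) ≅ (pullSh g).obj ((pullSh i).obj F) :=
  pullVia j f (j ≫ f) rfl F ≪≫ (pullVia g i (j ≫ f) w.symm F).symm

variable {Ω : Type u} [Field Ω] [IsSepClosed Ω]

theorem mapStk_canE (w : j ≫ f = g ≫ i) (F : Sh X) (e : Spec (.of Ω) ⟶ E) (ξ' : Spec (.of Ω) ⟶ X')
    (ζ : Spec (.of Ω) ⟶ Z) (ξ : Spec (.of Ω) ⟶ X) (h₁ : e ≫ j = ξ') (h₂ : ξ' ≫ f = ξ)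
    (h₃ : e ≫ g = ζ) (h₄ : ζ ≫ i = ξ) (σ : Stk F ξ) :
    mapStk (canE w F).hom e (pullStk' j _ e ξ' h₁ (pullStk' f F ξ' ξ h₂ σ)) =
      pullStk' g _ e ζ h₃ (pullStk' i F ζ ξ h₄ σ) := by
  have h₅ : e ≫ (j ≫ f) = ξ := by rw [← Category.assoc, h₁, h₂]
  rw [Iso.trans_hom, mapStk_comp, mapStk_pullVia' j f (j ≫ f) rfl F e ξ' ξ h₁ h₂ h₅, Iso.symm_hom,
    mapStk_pullVia_inv' g i (j ≫ f) w.symm F e ζ ξ h₃ h₄ h₅ σ]

end Can

section Over

variable {X X' U : Scheme.{u}} {f : X' ⟶ X} (u : U ⟶ X) [IsOpenImmersion u]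
  (hf : IsIso (pullback.snd f u))

include hf in
/-- `f` is a monomorphism over `U`. -/
theorem eq_over {T : Scheme.{u}} (a b : T ⟶ X') (h : a ≫ f = b ≫ f)
    (hr : Set.range (a ≫ f) ⊆ Set.range u) : a = b := by
  let q : T ⟶ U := IsOpenImmersion.lift u (a ≫ f) hr
  have hq : q ≫ u = a ≫ f := IsOpenImmersion.lift_fac u (a ≫ f) hr
  have h1 : pullback.lift a q hq.symm = pullback.lift b q (by rw [hq, h]) := by
    rw [← cancel_mono (pullback.snd f u), pullback.lift_snd, pullback.lift_snd]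
  have h2 := congrArg (fun k => k ≫ pullback.fst f u) h1
  have h3 : pullback.lift a q hq.symm ≫ pullback.fst f u = a := pullback.lift_fst _ _ _
  have h4 : pullback.lift b q (by rw [hq, h]) ≫ pullback.fst f u = b := pullback.lift_fst _ _ _
  exact h3.symm.trans (h2.trans h4)

end Over

variable {X X' Z E : Scheme.{u}} {f : X' ⟶ X} {i : Z ⟶ X} {j : E ⟶ X'} {g : E ⟶ Z}
  {F' : Sh X'} {G : Sh Z} (α : (pullSh j).obj F' ≅ (pullSh g).obj G) (c : IsPullback j g f i)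
  {U : Scheme.{u}} (u : U ⟶ X) [IsOpenImmersion u] (hU : Set.range u = (Set.range i)ᶜ)
  (hf : IsIso (pullback.snd f u))

section Beta

variable {Ω : Type u} [Field Ω] [IsSepClosed Ω]

include hU hf in
theorem β_inj [UniversallyClosed f] [IsClosedImmersion i] (ξ' : Spec (.of Ω) ⟶ X')
    (hξ : (ξ' ≫ f) default ∈ Set.range u) : Function.Injective (mapStk (βm α c) ξ') := by
  intro σ' τ' h
  obtain ⟨σ, rfl⟩ := (pullStk' f _ ξ' (ξ' ≫ f) rfl).surjective σ'
  obtain ⟨τ, rfl⟩ := (pullStk' f _ ξ' (ξ' ≫ f) rfl).surjective τ'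
  obtain ⟨V, l, hl, p, q, rfl, rfl⟩ := exists_germ₂ _ σ τ
  rw [mapStk_βm, mapStk_βm] at h
  congr 1
  have hVl : V.hom (l default) = (ξ' ≫ f) default := by
    rw [← hl]; rfl
  refine germ_d_eq α c l hl p q ?_ ?_
  · intro w hw
    have e1 : w = bcPt f ξ' l hl default := by
      obtain ⟨Ω', _, _, m₁, m₂, hm, rfl, h2⟩ := exists_geom_pair (bcFst f V) w (bcPt f ξ' l hl default)
        (by rw [hw, ← Scheme.Hom.comp_apply, bcPt_fst])
      have h3 : m₁ = m₂ := by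
        apply hom_ext_bc f hm
        apply eq_over u hf
        · rw [Category.assoc, Category.assoc, ← bc_condition, reassoc_of% hm]
        · rintro _ ⟨y, rfl⟩
          have : (m₁ ≫ ((EtCoh.bc f).obj V).hom) ≫ f = m₁ ≫ bcFst f V ≫ V.hom := by
            rw [Category.assoc, bc_condition]
          rw [this, Subsingleton.elim y default]
          change V.hom (bcFst f V (m₁ default)) ∈ _
          rw [hw, hVl]
          exact hξ
      rw [h3, h2]
    rw [e1, mem_agree_iff' F' _ _ _ (bcPt_hom f ξ' l hl)]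
    exact h
  · intro w hw
    exfalso
    rw [hU] at hξ
    apply hξ
    refine ⟨((EtCoh.bc i).obj V).hom w, ?_⟩
    rw [← hVl, ← hw]
    change (((EtCoh.bc i).obj V).hom ≫ i) w = (bcFst i V ≫ V.hom) w
    rw [bc_condition]

include hU hf in
theorem β_surj (hBC : BCsurj f) (ξ' : Spec (.of Ω) ⟶ X')
    (hξ : (ξ' ≫ f) default ∈ Set.range u) : Function.Surjective (mapStk (βm α c) ξ') := by
  intro σ
  obtain ⟨V₀, m₀, hm₀, a₀, rfl⟩ := exists_germ F' σ
  let pr := pullback.fst f (ξ' ≫ f)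
  let pΩ := pullback.snd f (ξ' ≫ f)
  have hc : pr ≫ f = (pΩ ≫ ξ') ≫ f := by rw [Category.assoc]; exact pullback.condition
  have hpr : pr = pΩ ≫ ξ' := by
    apply eq_over u hf _ _ hc
    rintro _ ⟨y, rfl⟩
    rw [hc, Category.assoc]
    have : (pΩ ≫ ξ' ≫ f) y = (ξ' ≫ f) default := by
      rw [Scheme.Hom.comp_apply, Subsingleton.elim (pΩ y) default]
    rw [this]
    exact hξ
  let γ : Fam F' pr := ((Fam.ofSect a₀).pull (pΩ ≫ m₀)).congr (by rw [Category.assoc, hm₀, hpr])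
  obtain ⟨V, l, hl, b, hb⟩ := hBC F' Ω (ξ' ≫ f) γ
  let D : V.left.Opens := V.hom ⁻¹ᵁ u.opensRange
  have hlD : l default ∈ D := by
    change V.hom (l default) ∈ Set.range u
    rw [← hl] at hξ
    exact hξ
  obtain ⟨k, hk⟩ := exists_lift_openEt V D l hlD
  have hk' : k ≫ (openEt V D).hom = ξ' ≫ f := by
    rw [← hl, ← hk, Category.assoc]
    exact congrArg (k ≫ ·) (Over.w (openEtι V D).hom).symm
  have hemp : ∀ w : ((EtCoh.bc i).obj (openEt V D)).left, False := by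
    intro w
    have h1 : i (((EtCoh.bc i).obj (openEt V D)).hom w) = (openEt V D).hom (bcFst i _ w) := by
      change (((EtCoh.bc i).obj (openEt V D)).hom ≫ i) w = (bcFst i _ ≫ (openEt V D).hom) w
      rw [bc_condition]
    have h2 : (openEt V D).hom (bcFst i _ w) ∈ Set.range u := (bcFst i (openEt V D) w).2
    rw [hU] at h2
    exact h2 ⟨_, h1⟩
  obtain ⟨t, -⟩ := exists_glue G ((EtCoh.bc i).obj (openEt V D)) (fun _ _ _ => True)
    (fun _ _ _ _ _ _ => trivial) (fun W k s t _ _ => by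
      refine sect_ext G W s t (fun x => (hemp (k.left x)).elim)) (fun x => (hemp x).elim)
  have hcomp : Compat α c (F'.obj.map ((EtCoh.bc f).map (openEtι V D)).op b) t :=
    fun Ω' _ _ m₁ m₂ _ _ _ _ _ _ => (hemp (m₂ default)).elim
  refine ⟨pullStk' f _ ξ' (ξ' ≫ f) rfl (germ _ k hk' (dMk α c _ _ hcomp)), ?_⟩
  rw [mapStk_βm, dFst_dMk]
  have h1 : germ F' (bcPt f ξ' k hk') (bcPt_hom _ _ _ _)
      (F'.obj.map ((EtCoh.bc f).map (openEtι V D)).op b) =
      germ F' (bcPt f ξ' l hl) (bcPt_hom _ _ _ _) b := by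
    refine germ_res' F' ((EtCoh.bc f).map (openEtι V D)) _ _ _ _ ?_ b
    apply hom_ext_bc
    · rw [Category.assoc, bc_map_fst, bcPt_fst_assoc, bcPt_fst, hk]
    · rw [Category.assoc, bc_map_hom, bcPt_hom, bcPt_hom]
  refine h1.trans ?_
  let y : Spec (.of Ω) ⟶ pullback f (ξ' ≫ f) := pullback.lift ξ' (𝟙 _) (by rw [Category.id_comp])
  have hy₁ : y ≫ pr = ξ' := pullback.lift_fst _ _ _
  have hy₂ : y ≫ pΩ = 𝟙 _ := pullback.lift_snd _ _ _
  have q₁ : y ≫ pΩ ≫ l = l := by rw [reassoc_of% hy₂]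
  have q₂ : (y ≫ pΩ ≫ l) ≫ V.hom = ξ' ≫ f := by rw [q₁, hl]
  have h2 := hb y ξ' hy₁ q₂
  have h3 : germ F' (bcPt f ξ' (y ≫ pΩ ≫ l) q₂) (bcPt_hom _ _ _ _) b =
      germ F' (bcPt f ξ' l hl) (bcPt_hom _ _ _ _) b := by
    congr 1
    exact congrArg (fun k : {k : Spec (.of Ω) ⟶ V.left // k ≫ V.hom = ξ' ≫ f} => bcPt f ξ' k.1 k.2)
      (Subtype.ext q₁ : (⟨_, q₂⟩ : {k : Spec (.of Ω) ⟶ V.left // k ≫ V.hom = ξ' ≫ f}) = ⟨l, hl⟩)
  rw [← h3]
  refine h2.symm.trans ?_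
  refine (Fam.congr_val _ _ _ _ _).trans ?_
  refine ((Fam.ofSect a₀).val_congr (η' := m₀) ?_ ξ' _ hm₀).trans rfl
  rw [reassoc_of% hy₂]

end Beta

section Iso

theorem isIso_γm [UniversallyClosed f] (hBC : BCsurj f) [IsClosedImmersion i] : IsIso (γm α c) := by
  refine isIso_of_stk _ (fun z => ?_)
  obtain ⟨Ω, _, _, ζ, hζ⟩ := Etbase.EtSections.exists_geometricPoint z
  exact ⟨Ω, inferInstance, inferInstance, ζ, hζ, γ_inj α c ζ, γ_surj α c hBC ζ⟩

include hU hf in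
theorem isIso_βm [UniversallyClosed f] (hBC : BCsurj f) [IsClosedImmersion i] : IsIso (βm α c) := by
  refine isIso_of_stk _ (fun z => ?_)
  obtain ⟨Ω, _, _, ξ', hξ'⟩ := Etbase.EtSections.exists_geometricPoint z
  refine ⟨Ω, inferInstance, inferInstance, ξ', hξ', ?_⟩
  by_cases h : (ξ' ≫ f) default ∈ Set.range u
  · exact ⟨β_inj α c u hU hf ξ' h, β_surj α c u hU hf hBC ξ' h⟩
  · rw [hU, Set.mem_compl_iff, not_not] at h
    obtain ⟨ζ, hζ⟩ := Etcore.OpenClosed.exists_lift_closedImmersion i (ξ' ≫ f) h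
    have key : tt α c ξ' ζ hζ.symm ∘ mapStk (βm α c) ξ' ∘ pullStk' f _ ξ' (ξ' ≫ f) rfl =
        mapStk (γm α c) ζ ∘ pullStk' i _ ζ (ξ' ≫ f) hζ := by
      funext σ
      exact tt_mapStk_βm α c ξ' ζ (ξ' ≫ f) hζ.symm rfl hζ σ
    have hb : Function.Bijective (mapStk (γm α c) ζ ∘ pullStk' i _ ζ (ξ' ≫ f) hζ) :=
      Function.Bijective.comp ⟨γ_inj α c ζ, γ_surj α c hBC ζ⟩ (Equiv.bijective _)
    rw [← key] at hb
    have h1 := (tt_bijective α c ξ' ζ hζ.symm).of_comp_iff' (mapStk (βm α c) ξ' ∘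
      pullStk' f (dSh α c) ξ' (ξ' ≫ f) rfl)
    rw [h1] at hb
    exact (Function.Bijective.of_comp_iff _ (Equiv.bijective _)).1 hb

/-- Compatibility of the comparison maps with `α`. -/
theorem compat_βγ : (pullSh j).map (βm α c) ≫ α.hom = (canE c.w (dSh α c)).hom ≫ (pullSh g).map (γm α c) := by
  refine hom_ext_stk' _ _ (fun Ω _ _ e σ' => ?_)
  rw [mapStk_comp, mapStk_comp]
  obtain ⟨σ'', rfl⟩ := (pullStk' j _ e (e ≫ j) rfl).surjective σ'
  obtain ⟨σ, rfl⟩ := (pullStk' f _ (e ≫ j) ((e ≫ j) ≫ f) rfl).surjective σ''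
  have w : (e ≫ j) ≫ f = (e ≫ g) ≫ i := by rw [Category.assoc, c.w, Category.assoc]
  rw [mapStk_canE c.w (dSh α c) e (e ≫ j) (e ≫ g) ((e ≫ j) ≫ f) rfl rfl rfl w.symm,
    ← pullStk'_mapStk, ← pullStk'_mapStk, ← pullStk'_tt α c e (e ≫ j) (e ≫ g) rfl rfl w,
    tt_mapStk_βm α c (e ≫ j) (e ≫ g) ((e ≫ j) ≫ f) w rfl w.symm]

end Iso

section Unit

variable {F : Sh X} (a : (pullSh f).obj F ⟶ F') (b : (pullSh i).obj F ⟶ G)
  (hab : (pullSh j).map a ≫ α.hom = (canE c.w F).hom ≫ (pullSh g).map b)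

include hab in
theorem tt_mapStk {Ω : Type u} [Field Ω] [IsSepClosed Ω] (ξ' : Spec (.of Ω) ⟶ X')
    (ζ : Spec (.of Ω) ⟶ Z) (ξ : Spec (.of Ω) ⟶ X)
    (w : ξ' ≫ f = ζ ≫ i) (h : ξ' ≫ f = ξ) (h' : ζ ≫ i = ξ) (σ : Stk F ξ) :
    tt α c ξ' ζ w (mapStk a ξ' (pullStk' f _ ξ' ξ h σ)) = mapStk b ζ (pullStk' i _ ζ ξ h' σ) := by
  let e := c.lift ξ' ζ w
  have h₁ : e ≫ j = ξ' := c.lift_fst _ _ _
  have h₂ : e ≫ g = ζ := c.lift_snd _ _ _
  apply (pullStk' g G e ζ h₂).injective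
  rw [pullStk'_tt α c e ξ' ζ h₁ h₂ w, pullStk'_mapStk, pullStk'_mapStk,
    ← mapStk_canE c.w F e ξ' ζ ξ h₁ h h₂ h', ← mapStk_comp, ← mapStk_comp, hab]

include hab in
theorem compat_unit {V : X.Etale} (s : sect F V) :
    Compat α c (a.hom.app (op ((EtCoh.bc f).obj V)) (pullSect f F s))
      (b.hom.app (op ((EtCoh.bc i).obj V)) (pullSect i F s)) := by
  intro Ω _ _ m₁ m₂ hm ξ' ζ w h₁ h₂
  have k₁ : (m₁ ≫ bcFst f V) ≫ V.hom = ξ' ≫ f := by
    rw [Category.assoc, bc_condition, ← Category.assoc, h₁]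
  have k₂ : (m₂ ≫ bcFst i V) ≫ V.hom = ξ' ≫ f := by rw [← hm, k₁]
  rw [← mapStk_germ, ← mapStk_germ, germ_pullSect f F s m₁ ξ' h₁ (ξ' ≫ f) k₁,
    germ_pullSect i F s m₂ ζ h₂ (ξ' ≫ f) k₂,
    tt_mapStk α c a b hab ξ' ζ (ξ' ≫ f) w rfl w.symm]
  congr 2
  exact congrArg (fun k : {k : Spec (.of Ω) ⟶ V.left // k ≫ V.hom = ξ' ≫ f} => germ F k.1 k.2 s)
      (Subtype.ext hm : (⟨_, k₁⟩ : {k : Spec (.of Ω) ⟶ V.left // k ≫ V.hom = ξ' ≫ f}) = ⟨_, k₂⟩)

/-- The morphism to the sheaf of compatible pairs attached to a compatible pair of morphisms. -/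
noncomputable def θm : F ⟶ dSh α c :=
  ⟨{ app := fun V => ↾(fun s => dMk α c _ _ (compat_unit α c a b hab (V := V.unop) s))
     naturality := fun V W k => by
       ext s
       apply d_ext α c
       · change a.hom.app (op ((EtCoh.bc f).obj W.unop)) (pullSect f F (F.obj.map k s)) =
           F'.obj.map ((EtCoh.bc f).map k.unop).op
            (a.hom.app (op ((EtCoh.bc f).obj V.unop)) (pullSect f F s))
         have h1 := pullSect_res f F k.unop s
         have h2 := ConcreteCategory.congr_hom (a.hom.naturality ((EtCoh.bc f).map k.unop).op)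
           (pullSect f F s)
         exact (congrArg _ h1).trans h2
       · change b.hom.app (op ((EtCoh.bc i).obj W.unop)) (pullSect i F (F.obj.map k s)) =
           G.obj.map ((EtCoh.bc i).map k.unop).op
            (b.hom.app (op ((EtCoh.bc i).obj V.unop)) (pullSect i F s))
         have h1 := pullSect_res i F k.unop s
         have h2 := ConcreteCategory.congr_hom (b.hom.naturality ((EtCoh.bc i).map k.unop).op)
           (pullSect i F s)
         exact (congrArg _ h1).trans h2 }⟩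

theorem θm_app {V : X.Etale} (s : sect F V) : (θm α c a b hab).hom.app (op V) s =
    dMk α c _ _ (compat_unit α c a b hab s) := rfl

theorem θm_βm : (pullSh f).map (θm α c a b hab) ≫ βm α c = a := by
  refine hom_ext_stk' _ _ (fun Ω _ _ ξ' σ' => ?_)
  obtain ⟨σ, rfl⟩ := (pullStk' f _ ξ' (ξ' ≫ f) rfl).surjective σ'
  obtain ⟨V, l, hl, s, rfl⟩ := exists_germ _ σ
  rw [mapStk_comp, ← pullStk'_mapStk, mapStk_germ, θm_app, mapStk_βm, dFst_dMk, pullStk'_germ,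
    mapStk_germ]

theorem θm_γm : (pullSh i).map (θm α c a b hab) ≫ γm α c = b := by
  refine hom_ext_stk' _ _ (fun Ω _ _ ζ σ' => ?_)
  obtain ⟨σ, rfl⟩ := (pullStk' i _ ζ (ζ ≫ i) rfl).surjective σ'
  obtain ⟨V, l, hl, s, rfl⟩ := exists_germ _ σ
  rw [mapStk_comp, ← pullStk'_mapStk, mapStk_germ, θm_app, mapStk_γm, dSnd_dMk, pullStk'_germ,
    mapStk_germ]

end Unit

section Final

include hU hf in
/-- The point of `X` are covered by `X'` and `Z`. -/
theorem exists_cover (x : X) : (∃ z, i z = x) ∨ (∃ x', f x' = x) := by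
  by_cases h : x ∈ Set.range i
  · exact Or.inl h
  · right
    have h1 : x ∈ Set.range u := by rw [hU]; exact h
    obtain ⟨y, rfl⟩ := h1
    let e := asIso (pullback.snd f u)
    refine ⟨pullback.fst f u (e.inv y), ?_⟩
    change (e.inv ≫ pullback.fst f u ≫ f) y = u y
    rw [pullback.condition]
    change (e.inv ≫ e.hom ≫ u) y = u y
    rw [Iso.inv_hom_id_assoc]

include hU hf in
theorem hom_ext_cover {F₁ F₂ : Sh X} (φ ψ : F₁ ⟶ F₂) (h₁ : (pullSh f).map φ = (pullSh f).map ψ)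
    (h₂ : (pullSh i).map φ = (pullSh i).map ψ) : φ = ψ := by
  refine hom_ext_stk _ _ (fun x => ?_)
  rcases exists_cover u hU hf x with ⟨z, rfl⟩ | ⟨x', rfl⟩
  · obtain ⟨Ω, _, _, ζ, rfl⟩ := exists_geomPoint Z z
    refine ⟨Ω, inferInstance, inferInstance, ζ ≫ i, rfl, fun σ => ?_⟩
    apply (pullStk' i F₂ ζ (ζ ≫ i) rfl).injective
    rw [pullStk'_mapStk, pullStk'_mapStk, h₂]
  · obtain ⟨Ω, _, _, ξ', rfl⟩ := exists_geomPoint X' x'
    refine ⟨Ω, inferInstance, inferInstance, ξ' ≫ f, rfl, fun σ => ?_⟩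
    apply (pullStk' f F₂ ξ' (ξ' ≫ f) rfl).injective
    rw [pullStk'_mapStk, pullStk'_mapStk, h₁]

theorem bijective_of_pull {X Y : Scheme.{u}} (f : X ⟶ Y) {F₁ F₂ : Sh Y} (φ : F₁ ⟶ F₂)
    [IsIso ((pullSh f).map φ)] {Ω : Type u} [Field Ω] [IsSepClosed Ω] (ξ : Spec (.of Ω) ⟶ X) :
    Function.Bijective (mapStk φ (ξ ≫ f)) := by
  have h := mapStk_bijective_of_isIso ((pullSh f).map φ) ξ
  have e : mapStk φ (ξ ≫ f) =
      (pullStk' f F₂ ξ (ξ ≫ f) rfl).symm ∘ mapStk ((pullSh f).map φ) ξ ∘ pullStk' f F₁ ξ (ξ ≫ f) rfl := by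
    funext σ
    rw [Function.comp_apply, Function.comp_apply, ← pullStk'_mapStk, Equiv.symm_apply_apply]
  rw [e]
  exact (Equiv.bijective _).comp (h.comp (Equiv.bijective _))

include hU hf in
theorem isIso_cover {F₁ F₂ : Sh X} (φ : F₁ ⟶ F₂) [IsIso ((pullSh f).map φ)]
    [IsIso ((pullSh i).map φ)] : IsIso φ := by
  refine isIso_of_stk _ (fun x => ?_)
  rcases exists_cover u hU hf x with ⟨z, rfl⟩ | ⟨x', rfl⟩
  · obtain ⟨Ω, _, _, ζ, rfl⟩ := exists_geomPoint Z z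
    exact ⟨Ω, inferInstance, inferInstance, ζ ≫ i, rfl, bijective_of_pull i φ ζ⟩
  · obtain ⟨Ω, _, _, ξ', rfl⟩ := exists_geomPoint X' x'
    exact ⟨Ω, inferInstance, inferInstance, ξ' ≫ f, rfl, bijective_of_pull f φ ξ'⟩

include hU hf in
theorem fullyFaithful [UniversallyClosed f] (hBC : BCsurj f) [IsClosedImmersion i] (F₁ F₂ : Sh X)
    (a : (pullSh f).obj F₁ ⟶ (pullSh f).obj F₂) (b : (pullSh i).obj F₁ ⟶ (pullSh i).obj F₂)
    (hab : (pullSh j).map a ≫ (canE c.w F₂).hom = (canE c.w F₁).hom ≫ (pullSh g).map b) :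
    ∃! φ : F₁ ⟶ F₂, (pullSh f).map φ = a ∧ (pullSh i).map φ = b := by
  have hβ := isIso_βm (canE c.w F₂) c u hU hf hBC
  have hγ := isIso_γm (canE c.w F₂) c hBC
  have h11 : (pullSh j).map (𝟙 ((pullSh f).obj F₂)) ≫ (canE c.w F₂).hom =
      (canE c.w F₂).hom ≫ (pullSh g).map (𝟙 ((pullSh i).obj F₂)) := by simp
  let υ := θm (canE c.w F₂) c (𝟙 _) (𝟙 _) h11
  let θ := θm (canE c.w F₂) c a b hab
  have e1 : (pullSh f).map υ ≫ βm (canE c.w F₂) c = 𝟙 _ := θm_βm _ _ _ _ _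
  have e2 : (pullSh i).map υ ≫ γm (canE c.w F₂) c = 𝟙 _ := θm_γm _ _ _ _ _
  have i1 : IsIso ((pullSh f).map υ) := by
    have : IsIso ((pullSh f).map υ ≫ βm (canE c.w F₂) c) := by rw [e1]; infer_instance
    exact IsIso.of_isIso_comp_right _ (βm (canE c.w F₂) c)
  have i2 : IsIso ((pullSh i).map υ) := by
    have : IsIso ((pullSh i).map υ ≫ γm (canE c.w F₂) c) := by rw [e2]; infer_instance
    exact IsIso.of_isIso_comp_right _ (γm (canE c.w F₂) c)
  have i3 : IsIso υ := isIso_cover u hU hf υ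
  refine ⟨θ ≫ inv υ, ⟨?_, ?_⟩, ?_⟩
  · rw [← cancel_mono ((pullSh f).map υ), Functor.map_comp, Category.assoc, ← Functor.map_comp,
      IsIso.inv_hom_id, CategoryTheory.Functor.map_id, Category.comp_id]
    rw [← cancel_mono (βm (canE c.w F₂) c), Category.assoc, e1, Category.comp_id]
    exact θm_βm _ _ _ _ _
  · rw [← cancel_mono ((pullSh i).map υ), Functor.map_comp, Category.assoc, ← Functor.map_comp,
      IsIso.inv_hom_id, CategoryTheory.Functor.map_id, Category.comp_id]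
    rw [← cancel_mono (γm (canE c.w F₂) c), Category.assoc, e2, Category.comp_id]
    exact θm_γm _ _ _ _ _
  · rintro φ ⟨h1, h2⟩
    rw [IsIso.eq_comp_inv]
    apply hom_ext_cover u hU hf
    · rw [← cancel_mono (βm (canE c.w F₂) c), Functor.map_comp, Category.assoc, e1, Category.comp_id, h1]
      exact (θm_βm _ _ _ _ _).symm
    · rw [← cancel_mono (γm (canE c.w F₂) c), Functor.map_comp, Category.assoc, e2, Category.comp_id, h2]
      exact (θm_γm _ _ _ _ _).symm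

include hU hf in
theorem essSurj [UniversallyClosed f] (hBC : BCsurj f) [IsClosedImmersion i] :
    ∃ (F : Sh X) (β : (pullSh f).obj F ≅ F') (γ : (pullSh i).obj F ≅ G),
      (pullSh j).map β.hom ≫ α.hom = (canE c.w F).hom ≫ (pullSh g).map γ.hom := by
  have hβ := isIso_βm α c u hU hf hBC
  have hγ := isIso_γm α c hBC
  exact ⟨dSh α c, asIso (βm α c), asIso (γm α c), compat_βγ α c⟩

end Final

end K223.ModSq
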