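import Groth.Agent.Sga4A.EtStalkMor
import Mathlib.CategoryTheory.Sites.LocallySurjective
import Mathlib.CategoryTheory.Sites.EpiMono

/-!
# Monomorphisms and epimorphisms of étale sheaves of sets: sections and stalks

* `mono_iff` : `Mono v ↔ ∀ U, Injective (v.app U)`.
* `epi_iff` : `Epi v ↔` every section lifts locally.
* `mono_iff_stk`, `epi_iff_stk`.
-/

set_option autoImplicit false
universe u

open CategoryTheory CategoryTheory.Limits AlgebraicGeometry Opposite

namespace K223.MonoEpi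

open EtDesc Groth.Agent.Sga4A.EtStalk Groth.Agent.Etbase

variable {X : Scheme.{u}} {F G : Sh X}

theorem mono_iff (v : F ⟶ G) : Mono v ↔ ∀ U : X.Etale, Function.Injective (v.hom.app (op U)) := by
  constructor
  · intro h U
    have h1 : Mono ((sheafToPresheaf X.smallEtaleTopology (Type (u + 1))).map v) := inferInstance
    have h2 : Mono v.hom := h1
    have h3 : Mono (v.hom.app (op U)) := inferInstance
    exact (mono_iff_injective _).1 h3
  · intro h
    refine ⟨fun {Z} a b hab => ?_⟩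
    ext ⟨U⟩ s
    apply h U
    exact ConcreteCategory.congr_hom (congr_app ((sheafToPresheaf _ _).congr_map hab) (op U)) s

/-- Every section of the target lifts locally. -/
def LocLift (v : F ⟶ G) : Prop :=
  ∀ (U : X.Etale) (t : sect G U) (x : U.left), ∃ (V : X.Etale) (g : V ⟶ U) (y : V.left) (s : sect F V),
    g.left y = x ∧ v.hom.app (op V) s = G.obj.map g.op t

theorem epi_iff (v : F ⟶ G) : Epi v ↔ LocLift v := by
  rw [← Sheaf.isLocallySurjective_iff_epi]
  constructor
  · intro h U t x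
    have h1 : Presheaf.imageSieve v.hom t ∈ X.smallEtaleTopology U :=
      Presheaf.imageSieve_mem X.smallEtaleTopology (U := op U) v.hom t
    rw [EtSite.mem_iff] at h1
    obtain ⟨V, g, y, ⟨s, hs⟩, hy⟩ := h1 x
    exact ⟨V, g, y, s, hy, hs⟩
  · intro h
    refine ⟨fun {U} t => ?_⟩
    rw [EtSite.mem_iff]
    intro x
    obtain ⟨V, g, y, s, hy, hs⟩ := h U t x
    exact ⟨V, g, y, ⟨s, hs⟩, hy⟩

theorem mono_iff_stk (v : F ⟶ G) :
    Mono v ↔ ∀ (Ω : Type u) [Field Ω] [IsSepClosed Ω] (ξ : Spec (CommRingCat.of Ω) ⟶ X),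
      Function.Injective (mapStk v ξ) := by
  constructor
  · intro h Ω _ _ ξ σ τ hστ
    obtain ⟨U, l, hl, s, t, rfl, rfl⟩ := exists_germ₂ F σ τ
    rw [mapStk_germ, mapStk_germ, germ_eq_iff] at hστ
    obtain ⟨V, g, m, hm, e⟩ := hστ
    refine (germ_eq_iff F l hl s t).2 ⟨V, g, m, hm, (mono_iff v).1 h V ?_⟩
    have h1 := ConcreteCategory.congr_hom (v.hom.naturality g.op) s
    have h2 := ConcreteCategory.congr_hom (v.hom.naturality g.op) t
    exact h1.trans (e.trans h2.symm)
  · intro h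
    refine (mono_iff v).2 (fun U => app_injective_of_stk v (fun x => ?_) U)
    obtain ⟨Ω, _, _, l, hl⟩ := exists_geomPoint X x
    exact ⟨Ω, inferInstance, inferInstance, l, hl, h Ω l⟩

theorem epi_iff_stk (v : F ⟶ G) :
    Epi v ↔ ∀ (Ω : Type u) [Field Ω] [IsSepClosed Ω] (ξ : Spec (CommRingCat.of Ω) ⟶ X),
      Function.Surjective (mapStk v ξ) := by
  rw [epi_iff]
  constructor
  · intro h Ω _ _ ξ σ
    obtain ⟨U, l, hl, t, rfl⟩ := exists_germ G σ
    obtain ⟨V, g, y, s, hy, hs⟩ := h U t (l default)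
    obtain ⟨m, hm, -⟩ := exists_lift g l y hy
    have hm' : m ≫ V.hom = ξ := by
      rw [← hl, ← hm, Category.assoc]
      exact congrArg _ (Over.w g.hom).symm
    refine ⟨germ F m hm' s, ?_⟩
    rw [mapStk_germ, hs, germ_res' G g m hm' l hl hm]
  · intro h U t x
    obtain ⟨Ω, _, _, l, hl⟩ := exists_geomPoint U.left x
    obtain ⟨σ, hσ⟩ := h Ω (l ≫ U.hom) (germ G l rfl t)
    obtain ⟨V, m, hm, s, rfl⟩ := exists_germ F σ
    rw [mapStk_germ, germ_eq_germ_iff] at hσ
    obtain ⟨W, b, c, n, hn, hb, hc, e⟩ := hσ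
    refine ⟨W, c, n default, F.obj.map b.op s, by rw [← hl, ← hc]; rfl, ?_⟩
    rw [← e]
    exact ConcreteCategory.congr_hom (v.hom.naturality b.op) s

end K223.MonoEpi
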