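import Groth.Agent.EtDesc.K223.MonoEpi
import Groth.Prelude.Def_BigSite

/-!
# Direct image of étale sheaves of sets along morphisms satisfying (B) preserves epimorphisms
-/

set_option autoImplicit false
universe u

open CategoryTheory CategoryTheory.Limits AlgebraicGeometry Opposite

namespace K223.PropB

open EtDesc Groth.Agent.Sga4A.EtStalk Groth.Agent.Etbase K223.MonoEpi

/-- Sections over an étale scheme with no points agree. -/
theorem sect_eq_of_isEmpty {X : Scheme.{u}} (F : Sh X) (U : X.Etale) (h : IsEmpty U.left) (s t : sect F U) :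
    s = t := sect_ext F U s t (fun x => (h.false x).elim)

/-- Gluing sections over disjoint monomorphisms. -/
theorem exists_glue_disjoint {X : Scheme.{u}} (F : Sh X) (U : X.Etale) {μ : Type u} (W : μ → X.Etale)
    (i : ∀ a, W a ⟶ U) (hi : ∀ a, Mono (i a))
    (hcov : ∀ x : U.left, ∃ (a : μ) (w : (W a).left), (i a).left w = x)
    (hdis : ∀ a b, a ≠ b → ∀ (x : (W a).left) (y : (W b).left), (i a).left x ≠ (i b).left y)
    (s : ∀ a, sect F (W a)) : ∃ t : sect F U, ∀ a, F.obj.map (i a).op t = s a := by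
  let P : ∀ (V : X.Etale) (_ : V ⟶ U), sect F V → Prop :=
    fun V g σ => ∃ (a : μ) (k : V ⟶ W a), k ≫ i a = g ∧ σ = F.obj.map k.op (s a)
  have h1 : ∀ (V W : X.Etale) (g : V ⟶ U) (k : W ⟶ V) (s : sect F V), P V g s →
      P W (k ≫ g) (F.obj.map k.op s) := by
    rintro V V' g k _ ⟨a, m, rfl, rfl⟩
    refine ⟨a, k ≫ m, Category.assoc _ _ _, ?_⟩
    rw [op_comp, F.obj.map_comp]
    rfl
  have h2 : ∀ (V : X.Etale) (g : V ⟶ U) (s t : sect F V), P V g s → P V g t → s = t := by
    rintro V g _ _ ⟨a, m, rfl, rfl⟩ ⟨b, n, hn, rfl⟩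
    by_cases hab : a = b
    · subst hab
      have := (cancel_mono (i a)).1 hn
      rw [this]
    · refine sect_eq_of_isEmpty F V ⟨fun x => ?_⟩ _ _
      refine hdis a b hab (m.left x) (n.left x) ?_
      have h1 : (m ≫ i a).left x = (n ≫ i b).left x := by rw [hn]
      exact h1
  have h3 : ∀ x : U.left, ∃ (V : X.Etale) (g : V ⟶ U) (v : V.left) (s : sect F V),
      g.left v = x ∧ P V g s := by
    intro x
    obtain ⟨a, w, hw⟩ := hcov x
    exact ⟨W a, i a, w, s a, hw, ⟨a, 𝟙 _, Category.id_comp _, by simp⟩⟩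
  obtain ⟨t, ht⟩ := exists_glue F U P h1 h2 h3
  exact ⟨t, fun a => ht (W a) (i a) (s a) ⟨a, 𝟙 _, Category.id_comp _, by simp⟩⟩

theorem inv_hom_apply {A B : Scheme.{u}} (e : A ≅ B) (x : A) : e.inv (e.hom x) = x := by
  rw [← Scheme.Hom.comp_apply, e.hom_inv_id]
  rfl

theorem hom_inv_apply {A B : Scheme.{u}} (e : A ≅ B) (x : B) : e.hom (e.inv x) = x := by
  rw [← Scheme.Hom.comp_apply, e.inv_hom_id]
  rfl

variable {X Y : Scheme.{u}} (f : X ⟶ Y)

theorem epi_push_map (hB : BigSite.PropB f) {F G : Sh X} (a : F ⟶ G) [Epi a] :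
    Epi ((pushSh f).map a) := by
  have nat : ∀ {V W : X.Etale} (k : W ⟶ V) (s : sect F V),
      a.hom.app (op W) (F.obj.map k.op s) = G.obj.map k.op (a.hom.app (op V) s) :=
    fun k s => ConcreteCategory.congr_hom (a.hom.naturality k.op) s
  rw [epi_iff]
  intro V t y
  have h0 := (epi_iff a).1 inferInstance ((EtCoh.bc f).obj V) t
  choose U g z s hz hs using h0
  let e : pullback V.hom f ≅ pullback f V.hom := pullbackSymmetry _ _
  let gl (x : ↥(pullback V.hom f)) : (U x).left ⟶ pullback V.hom f := (g x).left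
  have hgl (x : ↥(pullback V.hom f)) : Etale (gl x) := EtSite.etale_left (g x)
  have hz' (x : ↥(pullback V.hom f)) : gl x (z x) = x := hz x
  obtain ⟨κ, V', v', hv', hsurj, hj⟩ := hB V.left V.hom ↥(pullback V.hom f)
    (fun x => (U x).left) (fun x => gl x ≫ e.hom) (fun x => by have := hgl x; infer_instance) (fun x => by
      refine ⟨e.inv x, z (e.inv x), ?_⟩
      change (gl (e.inv x) ≫ e.hom) (z (e.inv x)) = x
      rw [Scheme.Hom.comp_apply, hz', ← Scheme.Hom.comp_apply, e.inv_hom_id]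
      rfl)
  obtain ⟨j, y', hy'⟩ := hsurj y
  obtain ⟨μ, W, hdisj, htop, hW⟩ := hj j
  have := hv' j
  have hVh : Etale V.hom := V.prop
  let V1 : Y.Etale := Scheme.Etale.mk (v' j ≫ V.hom)
  let k : V1 ⟶ V := MorphismProperty.Over.homMk (v' j) rfl trivial
  let e1 : pullback (v' j ≫ V.hom) f ≅ pullback f (v' j ≫ V.hom) := pullbackSymmetry _ _
  have : Etale (pullback.fst f (v' j ≫ V.hom)) := inferInstance
  let Wα (α : μ) : X.Etale := Scheme.Etale.mk ((W α).ι ≫ pullback.fst f (v' j ≫ V.hom))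
  let iα (α : μ) : Wα α ⟶ (EtCoh.bc f).obj V1 := MorphismProperty.Over.homMk ((W α).ι ≫ e1.inv) (by
    change ((W α).ι ≫ e1.inv) ≫ pullback.snd (v' j ≫ V.hom) f = _
    rw [Category.assoc, pullbackSymmetry_inv_comp_snd]
    rfl) trivial
  choose i h hh using hW
  -- the maps to the cover
  have hU (x : ↥(pullback V.hom f)) : gl x ≫ pullback.snd V.hom f = (U x).hom := Over.w (g x).hom
  let hα (α : μ) : Wα α ⟶ U (i α) := MorphismProperty.Over.homMk (h α) (by
    have h1 := congrArg (· ≫ pullback.fst f V.hom) (hh α)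
    simp only [Category.assoc, e, pullbackSymmetry_hom_comp_fst, pullback.lift_fst, Category.comp_id] at h1
    rw [hU] at h1
    exact h1) trivial
  have h2 (α : μ) : h α ≫ gl (i α) ≫ pullback.fst V.hom f =
      ((W α).ι ≫ e1.inv) ≫ pullback.fst (v' j ≫ V.hom) f ≫ v' j := by
    have h3 := congrArg (· ≫ pullback.snd f V.hom) (hh α)
    have h4 : pullback.map f (v' j ≫ V.hom) f V.hom (𝟙 X) (v' j) (𝟙 Y) (by simp) (by simp) ≫
        pullback.snd f V.hom = pullback.snd f (v' j ≫ V.hom) ≫ v' j := pullback.lift_snd _ _ _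
    simp only [Category.assoc, e, pullbackSymmetry_hom_comp_snd, h4] at h3
    rw [h3, Category.assoc, ← Category.assoc e1.inv, pullbackSymmetry_inv_comp_fst]
  have hcomm (α : μ) : hα α ≫ g (i α) = iα α ≫ (EtCoh.bc f).map k := by
    apply MorphismProperty.Over.Hom.ext
    apply hom_ext_bc f
    · have h5 : ((EtCoh.bc f).map k).left ≫ bcFst f V = pullback.fst (v' j ≫ V.hom) f ≫ v' j :=
        bc_map_fst f k
      refine Eq.trans ?_ ((h2 α).trans ?_)
      · exact Category.assoc _ _ _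
      · refine Eq.trans ?_ (Category.assoc _ _ _).symm
        exact congrArg (((W α).ι ≫ e1.inv) ≫ ·) h5.symm
    · exact (Over.w (hα α ≫ g (i α)).hom).trans (Over.w (iα α ≫ (EtCoh.bc f).map k).hom).symm
  have hmono (α : μ) : Mono (iα α) := by
    have h5 : Mono ((Scheme.Etale.forget X ⋙ Over.forget X).map (iα α)) :=
      inferInstanceAs (Mono ((W α).ι ≫ e1.inv))
    exact (Scheme.Etale.forget X ⋙ Over.forget X).mono_of_mono_map h5
  have hiα (α : μ) (w : (W α : Scheme.{u})) : (iα α).left w = e1.inv w.1 := by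
    change ((W α).ι ≫ e1.inv) w = _
    rw [Scheme.Hom.comp_apply]
    rfl
  have hcov (x : ((EtCoh.bc f).obj V1).left) : ∃ (α : μ) (w : (Wα α).left), (iα α).left w = x := by
    have h5 : (e1.hom x : ↥(pullback f (v' j ≫ V.hom))) ∈ (⨆ a, W a : (pullback f (v' j ≫ V.hom)).Opens) := by
      rw [htop]; trivial
    rw [TopologicalSpace.Opens.mem_iSup] at h5
    obtain ⟨α, hα⟩ := h5
    refine ⟨α, ⟨e1.hom x, hα⟩, ?_⟩
    exact (hiα α ⟨e1.hom x, hα⟩).trans (inv_hom_apply e1 x)
  have hdis (α β : μ) (hαβ : α ≠ β) (x : (Wα α).left) (y : (Wα β).left) : (iα α).left x ≠ (iα β).left y := by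
    intro h6
    have h7 : e1.inv (x : (W α : Scheme.{u})).1 = e1.inv (y : (W β : Scheme.{u})).1 :=
      (hiα α x).symm.trans (h6.trans (hiα β y))
    have h8 : (x : (W α : Scheme.{u})).1 = (y : (W β : Scheme.{u})).1 := by
      exact (hom_inv_apply e1 _).symm.trans ((congrArg e1.hom h7).trans (hom_inv_apply e1 _))
    have h9 := (hdisj α β hαβ).le_bot (x := (x : (W α : Scheme.{u})).1)
      ⟨(x : (W α : Scheme.{u})).2, by rw [h8]; exact (y : (W β : Scheme.{u})).2⟩
    exact h9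
  obtain ⟨σ, hσ⟩ := exists_glue_disjoint F ((EtCoh.bc f).obj V1) Wα iα hmono hcov hdis
    (fun α => F.obj.map (hα α).op (s (i α)))
  refine ⟨V1, k, y', σ, hy', ?_⟩
  change a.hom.app (op ((EtCoh.bc f).obj V1)) σ = G.obj.map ((EtCoh.bc f).map k).op t
  refine sect_ext G _ _ _ (fun x => ?_)
  obtain ⟨α, w, hw⟩ := hcov x
  refine ⟨Wα α, iα α, w, hw, ?_⟩
  have comp : ∀ {A B C : X.Etale} (p : A ⟶ B) (q : B ⟶ C) (τ : sect G C),
      G.obj.map p.op (G.obj.map q.op τ) = G.obj.map (p ≫ q).op τ := by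
    intro A B C p q τ
    rw [op_comp, G.obj.map_comp]
    rfl
  rw [← nat, hσ, nat]
  refine (congrArg (G.obj.map (hα α).op) (hs (i α))).trans ?_
  refine (comp (hα α) (g (i α)) t).trans ?_
  rw [hcomm]
  exact (comp (iα α) ((EtCoh.bc f).map k) t).symm

end K223.PropB
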