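import Groth.Agent.EtDesc.K223.PropB

/-!
# Direct image of étale sheaves of sets along morphisms satisfying (C) reflects mono- and epimorphisms
-/

set_option autoImplicit false
universe u

open CategoryTheory CategoryTheory.Limits AlgebraicGeometry Opposite

namespace K223.PropC

open EtDesc Groth.Agent.Sga4A.EtStalk Groth.Agent.Etbase K223.MonoEpi

variable {X Y : Scheme.{u}} {f : X ⟶ Y}

/-- Condition (C) in terms of the small étale sites. -/
theorem exists_surj (hC : BigSite.PropC f) (U : X.Etale) :
    ∃ (V : Y.Etale) (h : (EtCoh.bc f).obj V ⟶ U), Function.Surjective h.left := by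
  obtain ⟨V, v, hv, h, hh, hs⟩ := hC U.left U.hom
  refine ⟨Scheme.Etale.mk v, MorphismProperty.Over.homMk ((pullbackSymmetry v f).hom ≫ h) ?_ trivial, ?_⟩
  · change ((pullbackSymmetry v f).hom ≫ h) ≫ U.hom = pullback.snd v f
    rw [Category.assoc, hh, pullbackSymmetry_hom_comp_fst]
  · have : Surjective ((pullbackSymmetry v f).hom ≫ h) := inferInstance
    exact this.surj

theorem mono_of_mono_push (hC : BigSite.PropC f) {F G : Sh X} (a : F ⟶ G) [Mono ((pushSh f).map a)] :
    Mono a := by
  rw [mono_iff]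
  intro U s t hst
  obtain ⟨V, h, hs⟩ := exists_surj hC U
  have h1 : Function.Injective (a.hom.app (op ((EtCoh.bc f).obj V))) :=
    (mono_iff ((pushSh f).map a)).1 inferInstance V
  have h2 : F.obj.map h.op s = F.obj.map h.op t := by
    apply h1
    have n1 := ConcreteCategory.congr_hom (a.hom.naturality h.op) s
    have n2 := ConcreteCategory.congr_hom (a.hom.naturality h.op) t
    exact n1.trans ((congrArg (G.obj.map h.op) hst).trans n2.symm)
  refine sect_ext F U s t (fun x => ?_)
  obtain ⟨y, hy⟩ := hs x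
  exact ⟨_, h, y, hy, h2⟩

theorem epi_of_epi_push (hC : BigSite.PropC f) {F G : Sh X} (a : F ⟶ G) [Epi ((pushSh f).map a)] :
    Epi a := by
  rw [epi_iff]
  intro U t x
  obtain ⟨V, h, hs⟩ := exists_surj hC U
  obtain ⟨y, hy⟩ := hs x
  have h1 := (epi_iff ((pushSh f).map a)).1 inferInstance V (G.obj.map h.op t) (bcFst f V y)
  obtain ⟨V', g, y', s, hy', hs'⟩ := h1
  obtain ⟨w, hw1, hw2⟩ := Scheme.Pullback.exists_preimage_pullback (f := g.left) (g := bcFst f V) y' y hy'
  -- the square `bc V' = bc V ×_V V'`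
  have hw : (g.left ≫ V.hom) = V'.hom := Over.w g.hom
  have hc : pullback.fst g.left (bcFst f V) ≫ V'.hom =
      (pullback.snd g.left (bcFst f V) ≫ ((EtCoh.bc f).obj V).hom) ≫ f := by
    rw [← hw, ← Category.assoc, pullback.condition, Category.assoc, Category.assoc]
    congr 1
    exact bc_condition f V
  let m : pullback g.left (bcFst f V) ⟶ ((EtCoh.bc f).obj V').left := pullback.lift _ _ hc
  have hm : m ≫ ((EtCoh.bc f).map g).left = pullback.snd g.left (bcFst f V) := by
    apply hom_ext_bc f
    · rw [Category.assoc, bc_map_fst, ← Category.assoc]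
      have : m ≫ bcFst f V' = pullback.fst g.left (bcFst f V) := pullback.lift_fst _ _ _
      rw [this, pullback.condition]
    · rw [Category.assoc, bc_map_hom]
      exact pullback.lift_snd _ _ _
  refine ⟨(EtCoh.bc f).obj V', (EtCoh.bc f).map g ≫ h, m w, s, ?_, ?_⟩
  · have h3 : ((EtCoh.bc f).map g ≫ h).left (m w) = h.left ((m ≫ ((EtCoh.bc f).map g).left) w) := rfl
    rw [h3, hm, hw2, hy]
  · refine hs'.trans ?_
    rw [op_comp, G.obj.map_comp]
    rfl

end K223.PropC
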