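import Groth.Agent.EtDesc.K223.RigApprox
import Mathlib.RingTheory.Nilpotent.Lemmas
import Mathlib.Tactic.LinearCombination

/-!
# Derived completeness with respect to an element, elementary version

`DC g` : for every sequence `m` there is exactly one sequence `x` with `x k = m k + g * x (k + 1)`.
-/

set_option autoImplicit false
universe u

namespace K223.Rig

/-- `S` is derived `g`-complete. -/
structure DC {S : Type*} [CommRing S] (g : S) : Prop where
  ex : ∀ m : ℕ → S, ∃ x : ℕ → S, ∀ k, x k = m k + g * x (k + 1)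
  uniq : ∀ y : ℕ → S, (∀ k, y k = g * y (k + 1)) → ∀ k, y k = 0

variable {R S : Type*} [CommRing R] [CommRing S]

theorem DC.congr_equiv {g : R} (h : DC g) (e : R ≃+* S) : DC (e g) where
  ex m := by
    obtain ⟨x, hx⟩ := h.ex fun k => e.symm (m k)
    refine ⟨fun k => e (x k), fun k => ?_⟩
    beta_reduce
    rw [hx k, map_add, map_mul, RingEquiv.apply_symm_apply]
  uniq y hy k := by
    have := h.uniq (fun k => e.symm (y k)) (fun k => by
      rw [hy k, map_mul, RingEquiv.symm_apply_apply]) k
    rw [← e.apply_symm_apply (y k), this, map_zero]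

theorem span_pow_mem {f : S} {n : ℕ} {s : S} :
    s ∈ (Ideal.span {f}) ^ n ↔ f ^ n ∣ s := by
  rw [Ideal.span_singleton_pow, Ideal.mem_span_singleton]

theorem eq_zero_of_complete (f : S) [IsAdicComplete (Ideal.span {f}) S] {s : S}
    (h : ∀ n, f ^ n ∣ s) : s = 0 := by
  refine IsHausdorff.haus (I := Ideal.span {f}) inferInstance s fun n => ?_
  rw [SModEq.zero, smul_eq_mul, Ideal.mul_top, span_pow_mem]
  exact h n

theorem exists_limit (f : S) [IsAdicComplete (Ideal.span {f}) S] (a : ℕ → S)
    (h : ∀ {m n}, m ≤ n → f ^ m ∣ a m - a n) : ∃ L, ∀ n, f ^ n ∣ a n - L := by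
  obtain ⟨L, hL⟩ := IsPrecomplete.prec (I := Ideal.span {f}) inferInstance (f := a) (by
    intro m n hmn
    rw [SModEq.sub_mem, smul_eq_mul, Ideal.mul_top, span_pow_mem]
    exact h hmn)
  refine ⟨L, fun n => ?_⟩
  have := hL n
  rwa [SModEq.sub_mem, smul_eq_mul, Ideal.mul_top, span_pow_mem] at this

theorem dc_of_complete (f : S) [IsAdicComplete (Ideal.span {f}) S] : DC f where
  ex m := by
    let s : ℕ → ℕ → S := fun k n => ∑ j ∈ Finset.range n, f ^ j * m (k + j)
    have hs : ∀ k, ∃ L, ∀ n, f ^ n ∣ s k n - L := by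
      intro k
      refine exists_limit f (s k) fun {a b} hab => ?_
      obtain ⟨c, rfl⟩ := Nat.exists_eq_add_of_le hab
      have e : s k a - s k (a + c) = - ∑ j ∈ Finset.range c, f ^ (a + j) * m (k + (a + j)) := by
        simp only [s, Finset.sum_range_add, sub_add_cancel_left]
      rw [e, dvd_neg]
      exact Finset.dvd_sum fun j _ => Dvd.dvd.mul_right (pow_dvd_pow f (Nat.le_add_right _ _)) _
    choose L hL using hs
    refine ⟨L, fun k => ?_⟩
    rw [← sub_eq_zero]
    refine eq_zero_of_complete f fun n => ?_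
    have e : L k - (m k + f * L (k + 1)) =
        -(s k (n + 1) - L k) + f * (s (k + 1) n - L (k + 1)) := by
      have e1 : s k (n + 1) = m k + f * s (k + 1) n := by
        simp only [s]
        rw [Finset.sum_range_succ', Finset.mul_sum]
        simp only [pow_zero, one_mul, add_zero]
        rw [add_comm]
        congr 1
        refine Finset.sum_congr rfl fun j _ => ?_
        rw [pow_succ, show k + (j + 1) = k + 1 + j by ring]
        ring
      rw [e1]; ring
    rw [e]
    refine dvd_add ((dvd_neg).2 ((pow_dvd_pow f (Nat.le_succ n)).trans (hL k (n + 1)))) ?_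
    exact (hL (k + 1) n).mul_left _
  uniq y hy k := by
    refine eq_zero_of_complete f fun n => ?_
    have h : ∀ n k, y k = f ^ n * y (k + n) := by
      intro n
      induction n with
      | zero => intro k; simp
      | succ n ih =>
        intro k
        rw [ih k, hy (k + n), pow_succ]
        rw [show k + n + 1 = k + (n + 1) by ring]
        ring
    exact ⟨_, h n k⟩

theorem DC.quotient {g : S} (h : DC g) (f : S) (I : Ideal S) (hI : I = Ideal.span {f}) :
    DC (Ideal.Quotient.mk I g) where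
  ex m := by
    choose m' hm' using fun k => Ideal.Quotient.mk_surjective (I := I) (m k)
    obtain ⟨x, hx⟩ := h.ex m'
    exact ⟨fun k => Ideal.Quotient.mk I (x k), fun k => by
      beta_reduce
      rw [hx k, map_add, map_mul, hm']⟩
  uniq y hy := by
    choose y' hy' using fun k => Ideal.Quotient.mk_surjective (I := I) (y k)
    have h1 : ∀ k, ∃ z, y' k - g * y' (k + 1) = f * z := by
      intro k
      have h2 : Ideal.Quotient.mk I (y' k - g * y' (k + 1)) = 0 := by
        rw [map_sub, map_mul, hy', hy', ← hy k, sub_self]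
      rw [Ideal.Quotient.eq_zero_iff_mem, hI, Ideal.mem_span_singleton] at h2
      exact h2
    choose z hz using h1
    obtain ⟨w, hw⟩ := h.ex z
    have h3 := h.uniq (fun k => y' k - f * w k) (fun k => by
      rw [hw k]
      linear_combination hz k)
    intro k
    rw [← hy' k, Ideal.Quotient.eq_zero_iff_mem, hI, Ideal.mem_span_singleton]
    exact ⟨w k, sub_eq_zero.1 (h3 k)⟩

theorem dc_of_limit (f : S) [IsAdicComplete (Ideal.span {f}) S] {g : S}
    (h : ∀ n, DC (Ideal.Quotient.mk ((Ideal.span {f}) ^ n) g)) : DC g where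
  ex m := by
    choose x hx using fun n => (h n).ex (fun k => Ideal.Quotient.mk ((Ideal.span {f}) ^ n) (m k))
    choose a ha using fun n k => Ideal.Quotient.mk_surjective (I := (Ideal.span {f}) ^ n) (x n k)
    have hcomp : ∀ {i n : ℕ} (_ : i ≤ n) (k : ℕ), f ^ i ∣ a i k - a n k := by
      intro i n hin k
      rw [← span_pow_mem, ← Ideal.Quotient.eq_zero_iff_mem]
      refine (h i).uniq (fun k => Ideal.Quotient.mk _ (a i k - a n k)) (fun k => ?_) k
      have e1 : Ideal.Quotient.mk ((Ideal.span {f}) ^ i) (a i k) =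
          Ideal.Quotient.mk _ (m k + g * a i (k + 1)) := by
        rw [map_add, map_mul, ha, ha, hx i k]
      have e2 : Ideal.Quotient.mk ((Ideal.span {f}) ^ i) (a n k) =
          Ideal.Quotient.mk _ (m k + g * a n (k + 1)) := by
        have e3 : Ideal.Quotient.mk ((Ideal.span {f}) ^ n) (a n k) =
            Ideal.Quotient.mk _ (m k + g * a n (k + 1)) := by
          rw [map_add, map_mul, ha, ha, hx n k]
        rw [Ideal.Quotient.eq] at e3 ⊢
        exact Ideal.pow_le_pow_right hin e3
      rw [map_sub, e1, e2, ← map_sub, ← map_mul]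
      congr 1
      ring
    choose L hL using fun k => exists_limit f (fun n => a n k) (fun {i n} hin => hcomp hin k)
    refine ⟨L, fun k => ?_⟩
    rw [← sub_eq_zero]
    refine eq_zero_of_complete f fun n => ?_
    have e1 : f ^ n ∣ a n k - (m k + g * a n (k + 1)) := by
      rw [← span_pow_mem, ← Ideal.Quotient.eq, map_add, map_mul, ha, ha, hx n k]
    have e : L k - (m k + g * L (k + 1)) =
        -(a n k - L k) + g * (a n (k + 1) - L (k + 1)) + (a n k - (m k + g * a n (k + 1))) := by
      ring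
    rw [e]
    exact dvd_add (dvd_add ((dvd_neg).2 (hL k n)) ((hL (k + 1) n).mul_left _)) e1
  uniq y hy k := by
    refine eq_zero_of_complete f fun n => ?_
    rw [← span_pow_mem, ← Ideal.Quotient.eq_zero_iff_mem]
    exact (h n).uniq (fun k => Ideal.Quotient.mk _ (y k)) (fun k => by rw [hy k, map_mul]) k

/-- Derived completeness passes to completions. -/
theorem Appr.dc {f : R} {φ : R →+* S} (h : Appr (Ideal.span {f}) φ)
    [IsAdicComplete (Ideal.span {φ f}) S] {g : R} (hg : DC g) : DC (φ g) := by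
  refine dc_of_limit (φ f) fun n => ?_
  have h1 := (hg.quotient (f ^ n) _ (Ideal.span_singleton_pow f n)).congr_equiv (h.equiv n)
  rw [h.equiv_mk, Ideal.map_span, Set.image_singleton] at h1
  exact h1

/-- Precompleteness. -/
def PC (J : Ideal S) : Prop :=
  ∀ c : ℕ → S, (∀ n, c n ∈ J ^ n) → ∃ x, ∀ n, x - ∑ i ∈ Finset.range n, c i ∈ J ^ n

theorem pc_bot : PC (⊥ : Ideal S) := by
  intro c hc
  refine ⟨c 0, fun n => ?_⟩
  cases n with
  | zero => simp
  | succ n =>
    have h : ∀ i, c (i + 1) = 0 := fun i => by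
      have := hc (i + 1)
      rw [pow_succ, Ideal.mul_bot] at this
      exact this
    rw [Finset.sum_range_succ', Finset.sum_eq_zero (fun i _ => h i)]
    simp

theorem sup_pow_le (J : Ideal S) (f : S) (n : ℕ) :
    (J ⊔ Ideal.span {f}) ^ (n + 1) ≤ J ^ (n + 1) ⊔ Ideal.span {f} * (J ⊔ Ideal.span {f}) ^ n := by
  induction n with
  | zero => simp
  | succ n ih =>
    have h1 : (J ⊔ Ideal.span {f}) ^ (n + 1 + 1) =
        J * (J ⊔ Ideal.span {f}) ^ (n + 1) ⊔ Ideal.span {f} * (J ⊔ Ideal.span {f}) ^ (n + 1) := by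
      rw [← Ideal.sup_mul, ← pow_succ']
    rw [h1]
    refine sup_le ?_ le_sup_right
    refine (Ideal.mul_mono_right ih).trans ?_
    rw [Ideal.mul_sup, ← pow_succ']
    refine sup_le_sup_left ?_ _
    rw [mul_left_comm]
    refine Ideal.mul_mono_right ?_
    rw [pow_succ' (J ⊔ Ideal.span {f}) n]
    exact Ideal.mul_mono_left le_sup_left

theorem PC.sup {J : Ideal S} (hJ : PC J) {f : S} (hf : DC f) : PC (J ⊔ Ideal.span {f}) := by
  intro c hc
  set K := J ⊔ Ideal.span {f} with hK
  -- decomposition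
  have hdec : ∀ c : {c : ℕ → S // ∀ n, c n ∈ K ^ n}, ∃ (d : ℕ → S) (c' : {c : ℕ → S // ∀ n, c n ∈ K ^ n}),
      (∀ n, d n ∈ J ^ n) ∧ c.1 0 = d 0 ∧ ∀ n, c.1 (n + 1) = d (n + 1) + f * c'.1 n := by
    rintro ⟨c, hc⟩
    have h1 : ∀ n, ∃ d ∈ J ^ (n + 1), ∃ e ∈ K ^ n, c (n + 1) = d + f * e := by
      intro n
      obtain ⟨d, hd, e, he, h2⟩ := Submodule.mem_sup.1 (sup_pow_le J f n (hc (n + 1)))
      obtain ⟨e', he', rfl⟩ := Ideal.mem_span_singleton_mul.1 he
      exact ⟨d, hd, e', he', h2.symm⟩
    choose d hd e he h2 using h1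
    refine ⟨fun n => Nat.casesOn n (c 0) d, ⟨e, he⟩, ?_, rfl, h2⟩
    intro n
    cases n with
    | zero => simp
    | succ n => exact hd n
  choose d c' hd h0 h1 using hdec
  let s : ℕ → {c : ℕ → S // ∀ n, c n ∈ K ^ n} := fun i => Nat.rec ⟨c, hc⟩ (fun _ t => c' t) i
  choose y hy using fun i => hJ (d (s i)) (hd (s i))
  obtain ⟨x, hx⟩ := hf.ex y
  have key : ∀ n i, x i - ∑ j ∈ Finset.range n, (s i).1 j ∈ K ^ n := by
    intro n
    induction n with
    | zero => intro i; simp
    | succ n ih =>
      intro i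
      have e : x i - ∑ j ∈ Finset.range (n + 1), (s i).1 j =
          (y i - ∑ j ∈ Finset.range (n + 1), d (s i) j) +
            f * (x (i + 1) - ∑ j ∈ Finset.range n, (s (i + 1)).1 j) := by
        have e1 : ∑ j ∈ Finset.range (n + 1), (s i).1 j =
            ∑ j ∈ Finset.range (n + 1), d (s i) j +
              f * ∑ j ∈ Finset.range n, (s (i + 1)).1 j := by
          rw [Finset.sum_range_succ', Finset.sum_range_succ' (d (s i)), h0,
            Finset.sum_congr rfl (fun j _ => h1 (s i) j), Finset.sum_add_distrib, Finset.mul_sum]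
          change _ + ∑ j ∈ Finset.range n, f * (c' (s i)).1 j + _ = _ + _ +
            ∑ j ∈ Finset.range n, f * (c' (s i)).1 j
          ring
        rw [e1, hx i]; ring
      rw [e]
      refine Ideal.add_mem _ (Ideal.pow_right_mono le_sup_left _ (hy i (n + 1))) ?_
      rw [pow_succ']
      exact Ideal.mul_mem_mul (Ideal.mem_sup_right (Ideal.mem_span_singleton_self f)) (ih (i + 1))
  exact ⟨x 0, fun n => key n 0⟩

theorem pc_of_list (L : List S) (hL : ∀ g ∈ L, DC g) : PC (Ideal.span {g | g ∈ L}) := by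
  induction L with
  | nil => simpa using pc_bot (S := S)
  | cons f L ih =>
    have h1 := (ih fun g hg => hL g (List.mem_cons_of_mem _ hg)).sup (hL f List.mem_cons_self)
    have e : Ideal.span {g | g ∈ f :: L} = Ideal.span {g | g ∈ L} ⊔ Ideal.span {f} := by
      rw [← Ideal.span_union]
      congr 1
      ext x
      simp
    rw [e]
    exact h1

theorem DC.sq_eq_zero {f : S} (h : DC f) {y : S} (hy : ∀ n, f ^ n ∣ y) : y ^ 2 = 0 := by
  choose a ha using hy
  have h1 := h.uniq (fun n => y * a n) (fun n => by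
    have h2 := ha n
    have h3 := ha (n + 1)
    rw [pow_succ] at h3
    linear_combination a n * h3 + a n * f * a (n + 1) * f ^ n - a n * f * a (n + 1) * f ^ n +
      (a n - f * a (n + 1)) * h2 - a n * h2) 0
  have h2 := ha 0
  simp only [pow_zero, one_mul] at h2
  rw [sq]
  nth_rewrite 2 [h2]
  exact h1

theorem pow_eq_zero_of_list : ∀ (n : ℕ) (S : Type u) [CommRing S] (L : List S), L.length = n →
    (∀ g ∈ L, DC g) → ∀ x : S, (∀ k : ℕ, x ∈ Ideal.span ((fun g => g ^ k) '' {g | g ∈ L})) →
      x ^ 2 ^ n = 0 := by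
  intro n
  induction n with
  | zero =>
    intro S _ L hL _ x hx
    have h1 := hx 0
    rw [List.length_eq_zero_iff.1 hL] at h1
    simpa using h1
  | succ n ih =>
    intro S _ L hL hdc x hx
    obtain ⟨f, L, rfl⟩ := List.exists_cons_of_length_eq_add_one hL
    have hL' : L.length = n := by simpa using hL
    have key : ∀ k, f ^ k ∣ x ^ 2 ^ n := by
      intro k
      rw [← Ideal.mem_span_singleton, ← Ideal.Quotient.eq_zero_iff_mem, map_pow]
      refine ih (S ⧸ Ideal.span {f ^ k}) (L.map (Ideal.Quotient.mk _)) (by simpa using hL') ?_ _ ?_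
      · intro g hg
        obtain ⟨g, hg', rfl⟩ := List.mem_map.1 hg
        exact (hdc g (List.mem_cons_of_mem _ hg')).quotient (f ^ k) _ rfl
      · intro j
        have h1 := Ideal.mem_map_of_mem (Ideal.Quotient.mk (Ideal.span {f ^ k})) (hx (max j k))
        rw [Ideal.map_span] at h1
        refine Ideal.span_le.2 ?_ h1
        rintro _ ⟨_, ⟨g, hg, rfl⟩, rfl⟩
        rcases List.mem_cons.1 hg with rfl | hg
        · have h2 : Ideal.Quotient.mk (Ideal.span {g ^ k}) (g ^ max j k) = 0 := by
            rw [Ideal.Quotient.eq_zero_iff_mem, Ideal.mem_span_singleton]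
            exact pow_dvd_pow _ (le_max_right _ _)
          change Ideal.Quotient.mk (Ideal.span {g ^ k}) (g ^ max j k) ∈ _
          rw [h2]
          exact Submodule.zero_mem _
        · obtain ⟨t, ht⟩ : ∃ t, max j k = j + t := Nat.exists_eq_add_of_le (le_max_left _ _)
          change Ideal.Quotient.mk (Ideal.span {f ^ k}) (g ^ max j k) ∈ _
          rw [ht, pow_add, map_mul]
          refine Ideal.mul_mem_right _ _ (Ideal.subset_span ?_)
          exact ⟨Ideal.Quotient.mk _ g, List.mem_map.2 ⟨g, hg, rfl⟩, (map_pow _ _ _).symm⟩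
    have h2 := (hdc f List.mem_cons_self).sq_eq_zero key
    rw [← pow_mul] at h2
    rw [pow_succ]
    exact h2

theorem isNilpotent_of_list {S : Type u} [CommRing S] (L : List S) (hdc : ∀ g ∈ L, DC g) (x : S)
    (hx : ∀ k : ℕ, x ∈ (Ideal.span {g | g ∈ L}) ^ k) : IsNilpotent x := by
  refine ⟨_, pow_eq_zero_of_list L.length S L rfl hdc x fun k => ?_⟩
  have h1 : Ideal.span {g | g ∈ L} ≤ (Ideal.span ((fun g => g ^ k) '' {g | g ∈ L})).radical := by
    rw [Ideal.span_le]
    intro g hg
    exact ⟨k, Ideal.subset_span ⟨g, hg, rfl⟩⟩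
  have hfg : (Ideal.span {g | g ∈ L}).FG := by
    classical
    exact ⟨L.toFinset, by simp⟩
  obtain ⟨n, hn⟩ := Ideal.exists_pow_le_of_le_radical_of_fg h1 hfg
  exact hn (hx n)

end K223.Rig
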