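import Groth.Agent.EtDesc.K223.RigNewton
import Groth.Agent.EtDesc.K223.RigDC
import Groth.Agent.S0526
import Groth.Agent.S0528
import Mathlib.RingTheory.Spectrum.Prime.Homeomorph

/-!
# Rigidity for open-closed subsets

`cSurj_main`, `cInj_main` : let `(R, J)` be a henselian pair with `J` finitely generated, `φ : R → S` a ring map
inducing isomorphisms `R ⧸ J ^ n ≃ S ⧸ J ^ n S`, with `J S` in the Jacobson radical of `S`, and `U ⊇ D(J)` a
quasi-compact open subset of `Spec R`.  Then the open-closed subsets of `U` and of its inverse image in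
`Spec S` correspond to each other.
-/

set_option autoImplicit false
universe u

open PrimeSpectrum Topology

namespace K223.Rig

/-- Transport of henselian pairs along bijective ring maps. -/
theorem henselian_of_bijective {A B : Type u} [CommRing A] [CommRing B] (I : Ideal A)
    [HenselianRing A I] (ψ : A →+* B) (hψ : Function.Bijective ψ) : HenselianRing B (I.map ψ) := by
  let _ : Algebra A B := ψ.toAlgebra
  have : Algebra.IsIntegral A B := ⟨fun b => by
    obtain ⟨a, rfl⟩ := hψ.2 b
    exact isIntegral_algebraMap⟩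
  exact Groth.Agent.S0526.result A I B

theorem henselian_of_le {A : Type u} [CommRing A] {I J : Ideal A} (hIJ : I ≤ J)
    [h : HenselianRing A J] : HenselianRing A I :=
  ((Groth.Agent.S0528.result A I J hIJ).1 h).1

/-- If `(R, J)` is henselian and `S` is `f`-complete with `R ⧸ f ^ n ≃ S ⧸ f ^ n`, `f ∈ J`, then
`(S, J S)` is henselian. -/
theorem Appr.henselian {R S : Type u} [CommRing R] [CommRing S] {J : Ideal R} [h : HenselianRing R J]
    {f : R} (hf : f ∈ J) {φ : R →+* S} (hφ : Appr (Ideal.span {f}) φ)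
    [IsAdicComplete ((Ideal.span {f}).map φ) S] : HenselianRing S (J.map φ) := by
  have hfJ : Ideal.span {f} ≤ J := (Ideal.span_singleton_le_iff_mem _).2 hf
  refine (Groth.Agent.S0528.result S ((Ideal.span {f}).map φ) (J.map φ) (Ideal.map_mono hfJ)).2
    ⟨inferInstance, ?_⟩
  have h1 := ((Groth.Agent.S0528.result R (Ideal.span {f}) J hfJ).1 h).2
  let ψ : (R ⧸ Ideal.span {f}) →+* (S ⧸ (Ideal.span {f}).map φ) :=
    Ideal.quotientMap _ φ Ideal.le_comap_map
  have hψ : Function.Bijective ψ := by
    constructor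
    · rw [injective_iff_map_eq_zero]
      intro x hx
      obtain ⟨r, rfl⟩ := Ideal.Quotient.mk_surjective x
      have h2 : Ideal.Quotient.mk ((Ideal.span {f}).map φ) (φ r) = 0 := hx
      rw [Ideal.Quotient.eq_zero_iff_mem] at h2 ⊢
      have h3 := hφ.inj 1 r (by rw [pow_one]; exact h2)
      rwa [pow_one] at h3
    · intro x
      obtain ⟨s, rfl⟩ := Ideal.Quotient.mk_surjective x
      obtain ⟨r, hr⟩ := hφ.surj 1 s
      rw [pow_one] at hr
      refine ⟨Ideal.Quotient.mk _ r, ?_⟩
      change Ideal.Quotient.mk _ (φ r) = _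
      rw [eq_comm, Ideal.Quotient.eq]
      exact hr
  have h4 := henselian_of_bijective (Ideal.map (Ideal.Quotient.mk (Ideal.span {f})) J) ψ hψ
  rw [Ideal.map_map] at h4 ⊢
  exact h4

theorem exists_chain : ∀ (n : ℕ) (R : Type u) [CommRing R] (J : Ideal R) [HenselianRing R J]
    (L : List R), L.length = n → (∀ f ∈ L, f ∈ J) →
    ∃ (S : Type u) (_ : CommRing S) (φ : R →+* S), Appr J φ ∧ (∀ f ∈ L, DC (φ f)) ∧
      (∀ g, DC g → DC (φ g)) ∧
      ∀ U, IsOpen U → IsCompact U → DD J ⊆ U → CSurj (comap φ) U := by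
  intro n
  induction n with
  | zero =>
    intro R _ J _ L hL _
    rw [List.length_eq_zero_iff] at hL
    subst hL
    refine ⟨R, inferInstance, RingHom.id R, ⟨fun n r hr => by simpa using hr, fun n s => ⟨s, by simp⟩⟩,
      by simp, fun g hg => hg, fun U _ _ _ C' hC' => ?_⟩
    have e : (comap (RingHom.id R) : PrimeSpectrum R → PrimeSpectrum R) = id := by
      ext x; rfl
    rw [e] at hC' ⊢
    exact ⟨C', hC', rfl⟩
  | succ n ih =>
    intro R _ J hJ L hL hLJ
    obtain ⟨f, L, rfl⟩ := List.exists_cons_of_length_eq_add_one hL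
    have hf : f ∈ J := hLJ f List.mem_cons_self
    have hfJ : Ideal.span {f} ≤ J := (Ideal.span_singleton_le_iff_mem _).2 hf
    let I : Ideal R := Ideal.span {f}
    have hI : I.FG := ⟨{f}, by simp [I]⟩
    let S := AdicCompletion I R
    let φ : R →+* S := algebraMap R S
    have hφ : Appr I φ := appr_completion I hI
    have hc : IsAdicComplete (I.map φ) S := isAdicComplete_map I hI
    have hc' : IsAdicComplete (Ideal.span {φ f}) S := by
      have := hc
      rwa [Ideal.map_span, Set.image_singleton] at this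
    have hS : HenselianRing S (J.map φ) := Appr.henselian hf hφ
    obtain ⟨T, _, ψ, h1, h2, h3, h4⟩ := ih S (J.map φ) (L.map φ) (by simpa using hL) (by
      intro g hg
      obtain ⟨g, hg', rfl⟩ := List.mem_map.1 hg
      exact Ideal.mem_map_of_mem φ (hLJ g (List.mem_cons_of_mem _ hg')))
    refine ⟨T, inferInstance, ψ.comp φ, (hφ.of_le hfJ).comp h1, ?_, ?_, ?_⟩
    · intro g hg
      rcases List.mem_cons.1 hg with rfl | hg
      · exact h3 _ (dc_of_complete (φ g))
      · exact h2 _ (List.mem_map.2 ⟨g, hg, rfl⟩)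
    · intro g hg
      exact h3 _ (hφ.dc hg)
    · intro U hU hUc hUJ
      have e : (comap (ψ.comp φ) : PrimeSpectrum T → PrimeSpectrum R) = comap φ ∘ comap ψ := by
        ext x; rfl
      rw [e]
      have hIR : HenselianRing R I := henselian_of_le hfJ
      have hUI : DD I ⊆ U := fun x hx => hUJ fun h' => hx (hfJ.trans h')
      refine CSurj.comp (hφ.cSurj_of_DD hI hU hUc hUI (cSurj_principal f hφ ?_))
        (h4 _ (hU.preimage (continuous_comap φ)) (isCompact_preimage φ hU hUc) ?_)
      · exact IsAdicComplete.le_jacobson_bot (Ideal.span {φ f}) (Ideal.mem_span_singleton_self _)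
      · rw [← comap_preimage_DD]
        exact Set.preimage_mono hUJ

/-- **Rigidity for open-closed subsets: surjectivity.** -/
theorem Appr.cSurj {R S : Type u} [CommRing R] [CommRing S] {J : Ideal R} [HenselianRing R J]
    (hJ : J.FG) {φ : R →+* S} (h : Appr J φ) (hS : J.map φ ≤ Ideal.jacobson ⊥)
    {U : Set (PrimeSpectrum R)} (hU : IsOpen U) (hUc : IsCompact U) (hUJ : DD J ⊆ U) :
    CSurj (comap φ) U := by
  classical
  obtain ⟨s, hs⟩ := hJ
  have hL : Ideal.span {g | g ∈ s.toList} = J := by
    rw [← hs]; congr 1; ext x; simp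
  have hLJ : ∀ f ∈ s.toList, f ∈ J := fun f hf => by
    rw [← hL]; exact Ideal.subset_span hf
  have hJ : J.FG := ⟨s, hs⟩
  obtain ⟨R', _, ψ, h1, h2, -, h4⟩ := exists_chain _ R J s.toList rfl hLJ
  let T := AdicCompletion (J.map φ) S
  let α : S →+* T := algebraMap S T
  have hα : Appr (J.map φ) α := appr_completion _ (hJ.map φ)
  let ρ : R →+* T := α.comp φ
  have hρ : Appr J ρ := h.comp hα
  have hT : IsAdicComplete (J.map ρ) T := by
    have := isAdicComplete_map (J.map φ) (hJ.map φ)
    rw [Ideal.map_map] at this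
    exact this
  obtain ⟨κ, hκ⟩ := h1.exists_ext ρ (J.map ρ) le_rfl
  have hJL : J.map ψ = Ideal.span {g | g ∈ s.toList.map ψ} := by
    rw [← hL, Ideal.map_span]
    congr 1
    ext x
    simp
  have hdc : ∀ g ∈ s.toList.map ψ, DC g := by
    intro g hg
    obtain ⟨g, hg', rfl⟩ := List.mem_map.1 hg
    exact h2 g hg'
  have hpc : PC (J.map ψ) := by rw [hJL]; exact pc_of_list _ hdc
  have hκJ : (J.map ψ).map κ = J.map ρ := by rw [Ideal.map_map, hκ]
  have hκa : Appr (J.map ψ) κ := h1.of_comp (by rw [hκ]; exact hρ)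
  -- kernel
  have hker : RingHom.ker κ ≤ nilradical R' := by
    intro x hx
    refine isNilpotent_of_list (s.toList.map ψ) hdc x fun k => ?_
    rw [← hJL]
    refine hκa.inj k x ?_
    rw [(RingHom.mem_ker).1 hx]
    exact Ideal.zero_mem _
  -- surjectivity
  have hsurj : Function.Surjective κ := by
    intro t
    choose r hr using fun n => hκa.surj n t
    have hdiff : ∀ n, r (n + 1) - r n ∈ (J.map ψ) ^ n := by
      intro n
      refine hκa.inj n _ ?_
      have e : κ (r (n + 1) - r n) = (t - κ (r n)) - (t - κ (r (n + 1))) := by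
        rw [map_sub]; ring
      rw [e]
      exact Ideal.sub_mem _ (hr n) (Ideal.pow_le_pow_right (Nat.le_succ n) (hr (n + 1)))
    obtain ⟨x, hx⟩ := hpc (fun n => r (n + 1) - r n) hdiff
    refine ⟨x + r 0, ?_⟩
    refine (IsHausdorff.eq_iff_smodEq (I := J.map ρ)).2 fun n => ?_
    rw [SModEq.sub_mem, smul_eq_mul, Ideal.mul_top, ← hκJ]
    have h5 := hx n
    rw [Finset.sum_range_sub r n] at h5
    have e : κ (x + r 0) - t = κ (x - (r n - r 0)) - (t - κ (r n)) := by
      rw [map_add, map_sub, map_sub]; ring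
    rw [e]
    exact Ideal.sub_mem _ (mem_map_pow κ h5) (hr n)
  have hhom : IsHomeomorph (comap κ) := PrimeSpectrum.isHomeomorph_comap κ
    (fun x => ⟨1, one_pos, by rw [pow_one]; exact hsurj x⟩) hker
  have e1 : (comap ψ ∘ comap κ : PrimeSpectrum T → PrimeSpectrum R) = comap φ ∘ comap α := by
    have e2 : comap (κ.comp ψ) = comap ρ := by rw [hκ]
    exact e2
  have h6 : CSurj (comap φ ∘ comap α) U := by
    rw [← e1]
    exact CSurj.comp (h4 U hU hUc hUJ) (cSurj_of_isHomeomorph hhom _)
  refine CSurj.of_comp (continuous_comap φ) (continuous_comap α) h6 ?_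
  refine hα.cInj (hJ.map φ) hS ?_
  rw [← comap_preimage_DD]
  exact Set.preimage_mono hUJ

end K223.Rig
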