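import Mathlib.RingTheory.AdicCompletion.Completeness
import Mathlib.RingTheory.AdicCompletion.RingHom
import Mathlib.RingTheory.Henselian

/-!
# Ring maps inducing isomorphisms modulo all powers of an ideal

`Appr J φ` : the ring map `φ : R →+* S` induces bijections `R ⧸ J ^ n → S ⧸ J ^ n S` for all `n`.
-/

set_option autoImplicit false

namespace K223.Rig

variable {R : Type*} {S : Type*} {T : Type*} [CommRing R] [CommRing S] [CommRing T]

/-- `φ` induces bijections `R ⧸ J ^ n → S ⧸ J ^ n S` for all `n`. -/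
structure Appr (J : Ideal R) (φ : R →+* S) : Prop where
  inj : ∀ n r, φ r ∈ (J.map φ) ^ n → r ∈ J ^ n
  surj : ∀ n s, ∃ r, s - φ r ∈ (J.map φ) ^ n

theorem mem_map_pow {J : Ideal R} (φ : R →+* S) {n : ℕ} {r : R} (hr : r ∈ J ^ n) :
    φ r ∈ (J.map φ) ^ n := by
  rw [← Ideal.map_pow]
  exact Ideal.mem_map_of_mem φ hr

theorem pow_le_comap (J : Ideal R) (φ : R →+* S) (n : ℕ) : J ^ n ≤ ((J.map φ) ^ n).comap φ :=
  fun _ hr => mem_map_pow φ hr

theorem pow_le_comap' {J : Ideal R} (ρ : R →+* T) {K : Ideal T} (hρ : J.map ρ ≤ K) (n : ℕ) :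
    J ^ n ≤ (K ^ n).comap ρ :=
  fun _ hr => Ideal.pow_right_mono hρ n (mem_map_pow ρ hr)

theorem Appr.comp {J : Ideal R} {φ : R →+* S} {ψ : S →+* T} (h : Appr J φ)
    (h' : Appr (J.map φ) ψ) : Appr J (ψ.comp φ) where
  inj n r hr := by
    refine h.inj n r (h'.inj n _ ?_)
    rwa [Ideal.map_map]
  surj n t := by
    obtain ⟨s, hs⟩ := h'.surj n t
    obtain ⟨r, hr⟩ := h.surj n s
    refine ⟨r, ?_⟩
    rw [← Ideal.map_map]
    have e : t - (ψ.comp φ) r = (t - ψ s) + ψ (s - φ r) := by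
      rw [map_sub, RingHom.comp_apply]; ring
    rw [e]
    exact Ideal.add_mem _ hs (mem_map_pow ψ hr)

theorem Appr.of_comp {J : Ideal R} {φ : R →+* S} {ψ : S →+* T} (h : Appr J φ)
    (h' : Appr J (ψ.comp φ)) : Appr (J.map φ) ψ where
  inj n s hs := by
    obtain ⟨r, hr⟩ := h.surj n s
    rw [Ideal.map_map] at hs
    have h1 : (ψ.comp φ) r ∈ (J.map (ψ.comp φ)) ^ n := by
      have e : (ψ.comp φ) r = ψ s - ψ (s - φ r) := by
        rw [map_sub, RingHom.comp_apply]; ring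
      rw [e]
      refine Ideal.sub_mem _ hs ?_
      have := mem_map_pow ψ hr
      rwa [Ideal.map_map] at this
    have h2 := mem_map_pow φ (h'.inj n r h1)
    have e : s = (s - φ r) + φ r := by ring
    rw [e]
    exact Ideal.add_mem _ hr h2
  surj n t := by
    obtain ⟨r, hr⟩ := h'.surj n t
    refine ⟨φ r, ?_⟩
    rw [Ideal.map_map]
    exact hr

/-- Elements of `I S` for `I` arbitrary. -/
theorem Appr.exists_mem_sub {J : Ideal R} {φ : R →+* S} (h : Appr J φ) (n : ℕ) (I : Ideal R) {s : S}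
    (hs : s ∈ I.map φ) : ∃ r ∈ I, s - φ r ∈ (J.map φ) ^ n := by
  refine Submodule.span_induction (p := fun s _ => ∃ r ∈ I, s - φ r ∈ (J.map φ) ^ n) ?_ ?_ ?_ ?_ hs
  · rintro _ ⟨r, hr, rfl⟩
    exact ⟨r, hr, by simp⟩
  · exact ⟨0, I.zero_mem, by simp⟩
  · rintro x y - - ⟨a, ha, ha'⟩ ⟨b, hb, hb'⟩
    refine ⟨a + b, I.add_mem ha hb, ?_⟩
    have e : x + y - φ (a + b) = (x - φ a) + (y - φ b) := by rw [map_add]; ring
    rw [e]
    exact Ideal.add_mem _ ha' hb'
  · rintro c x - ⟨a, ha, ha'⟩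
    obtain ⟨d, hd⟩ := h.surj n c
    refine ⟨d * a, I.mul_mem_left _ ha, ?_⟩
    have e : c • x - φ (d * a) = c * (x - φ a) + φ a * (c - φ d) := by
      rw [map_mul, smul_eq_mul]; ring
    rw [e]
    exact Ideal.add_mem _ (Ideal.mul_mem_left _ _ ha') (Ideal.mul_mem_left _ _ hd)

theorem Appr.of_le {I J : Ideal R} {φ : R →+* S} (h : Appr I φ) (hIJ : I ≤ J) : Appr J φ where
  inj n r hr := by
    rw [← Ideal.map_pow] at hr
    obtain ⟨r', hr', h'⟩ := h.exists_mem_sub n (J ^ n) hr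
    rw [← map_sub] at h'
    have h1 := h.inj n _ h'
    have e : r = (r - r') + r' := by ring
    rw [e]
    exact Ideal.add_mem _ (Ideal.pow_right_mono hIJ n h1) hr'
  surj n s := by
    obtain ⟨r, hr⟩ := h.surj n s
    exact ⟨r, Ideal.pow_right_mono (Ideal.map_mono hIJ) n hr⟩

theorem Appr.inj_ideal {J : Ideal R} {φ : R →+* S} (h : Appr J φ) {I : Ideal R} (n : ℕ)
    (hI : J ^ n ≤ I) {r : R} (hr : φ r ∈ I.map φ) : r ∈ I := by
  obtain ⟨r', hr', h'⟩ := h.exists_mem_sub n I hr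
  rw [← map_sub] at h'
  have e : r = (r - r') + r' := by ring
  rw [e]
  exact I.add_mem (hI (h.inj n _ h')) hr'

/-- The isomorphism `R ⧸ J ^ n ≃ S ⧸ J ^ n S`. -/
noncomputable def Appr.equiv {J : Ideal R} {φ : R →+* S} (h : Appr J φ) (n : ℕ) :
    (R ⧸ J ^ n) ≃+* (S ⧸ (J.map φ) ^ n) :=
  RingEquiv.ofBijective
    (Ideal.quotientMap ((J.map φ) ^ n) φ (pow_le_comap J φ n)) (by
      constructor
      · rw [injective_iff_map_eq_zero]
        intro x hx
        obtain ⟨r, rfl⟩ := Ideal.Quotient.mk_surjective x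
        rw [Ideal.quotientMap_mk, Ideal.Quotient.eq_zero_iff_mem] at hx
        rw [Ideal.Quotient.eq_zero_iff_mem]
        exact h.inj n r hx
      · intro x
        obtain ⟨s, rfl⟩ := Ideal.Quotient.mk_surjective x
        obtain ⟨r, hr⟩ := h.surj n s
        refine ⟨Ideal.Quotient.mk _ r, ?_⟩
        rw [Ideal.quotientMap_mk, eq_comm, Ideal.Quotient.eq]
        exact hr)

theorem Appr.equiv_mk {J : Ideal R} {φ : R →+* S} (h : Appr J φ) (n : ℕ) (r : R) :
    h.equiv n (Ideal.Quotient.mk _ r) = Ideal.Quotient.mk _ (φ r) := rfl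

/-- For `ρ : R → T` with `J T ⊆ K`, the induced map `S → T ⧸ K ^ n`. -/
noncomputable def Appr.theta {J : Ideal R} {φ : R →+* S} (h : Appr J φ) (ρ : R →+* T) (K : Ideal T)
    (hρ : J.map ρ ≤ K) (n : ℕ) : S →+* T ⧸ K ^ n :=
  ((Ideal.quotientMap (K ^ n) ρ (pow_le_comap' ρ hρ n)).comp
    (h.equiv n).symm.toRingHom).comp (Ideal.Quotient.mk _)

theorem Appr.theta_apply {J : Ideal R} {φ : R →+* S} (h : Appr J φ) (ρ : R →+* T) (K : Ideal T)
    (hρ : J.map ρ ≤ K) (n : ℕ) (r : R) (s : S) (hs : s - φ r ∈ (J.map φ) ^ n) :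
    h.theta ρ K hρ n s = Ideal.Quotient.mk _ (ρ r) := by
  have e : Ideal.Quotient.mk ((J.map φ) ^ n) s = h.equiv n (Ideal.Quotient.mk _ r) := by
    rw [h.equiv_mk, Ideal.Quotient.eq]
    exact hs
  change (Ideal.quotientMap (K ^ n) ρ (pow_le_comap' ρ hρ n))
    ((h.equiv n).symm (Ideal.Quotient.mk _ s)) = _
  rw [e, RingEquiv.symm_apply_apply, Ideal.quotientMap_mk]

theorem Appr.theta_map {J : Ideal R} {φ : R →+* S} (h : Appr J φ) (ρ : R →+* T) (K : Ideal T)
    (hρ : J.map ρ ≤ K) (n : ℕ) (r : R) :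
    h.theta ρ K hρ n (φ r) = Ideal.Quotient.mk _ (ρ r) :=
  h.theta_apply ρ K hρ n r _ (by simp)

theorem Appr.theta_factor {J : Ideal R} {φ : R →+* S} (h : Appr J φ) (ρ : R →+* T) (K : Ideal T)
    (hρ : J.map ρ ≤ K) {m n : ℕ} (hmn : m ≤ n) :
    (Ideal.Quotient.factorPow K hmn).comp (h.theta ρ K hρ n) = h.theta ρ K hρ m := by
  ext s
  obtain ⟨r, hr⟩ := h.surj n s
  rw [RingHom.comp_apply, h.theta_apply ρ K hρ n r s hr,
    h.theta_apply ρ K hρ m r s (Ideal.pow_le_pow_right hmn hr)]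
  rfl

/-- Extension of ring maps into adically complete rings. -/
theorem Appr.exists_ext {J : Ideal R} {φ : R →+* S} (h : Appr J φ) (ρ : R →+* T) (K : Ideal T)
    [IsAdicComplete K T] (hρ : J.map ρ ≤ K) : ∃ κ : S →+* T, κ.comp φ = ρ := by
  refine ⟨IsAdicComplete.liftRingHom K (h.theta ρ K hρ)
    (fun hle => h.theta_factor ρ K hρ hle), ?_⟩
  ext r
  refine IsHausdorff.eq_iff_smodEq (I := K) |>.2 fun n => ?_
  rw [RingHom.comp_apply]
  have h1 := IsAdicComplete.mk_liftRingHom K (h.theta ρ K hρ)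
    (fun hle => h.theta_factor ρ K hρ hle) n (φ r)
  rw [h.theta_map] at h1
  rw [SModEq.sub_mem, smul_eq_mul, Ideal.mul_top]
  exact Ideal.Quotient.eq.1 h1

/-- The completion map. -/
theorem appr_completion (J : Ideal R) (hJ : J.FG) :
    Appr J (algebraMap R (AdicCompletion J R)) := by
  have key : ∀ (n : ℕ) (x : AdicCompletion J R), x ∈ (J.map (algebraMap R (AdicCompletion J R))) ^ n ↔
      AdicCompletion.evalₐ J n x = 0 := by
    intro n x
    have h1 : x ∈ (J.map (algebraMap R (AdicCompletion J R))) ^ n ↔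
        x ∈ (J ^ n • (⊤ : Submodule R (AdicCompletion J R))) := by
      rw [← Ideal.map_pow]
      exact (Submodule.restrictScalars_mem R _ _).symm.trans
        (by rw [← Ideal.smul_top_eq_map])
    rw [h1, AdicCompletion.pow_smul_top_eq_ker_eval hJ, LinearMap.mem_ker]
    have hle : J ^ n • (⊤ : Ideal R) ≤ J ^ n := Ideal.mul_le_left
    have h2 : Ideal.Quotient.factor hle
      (AdicCompletion.eval J R n x) = AdicCompletion.evalₐ J n x :=
      AdicCompletion.factor_eval_eq_evalₐ J x hle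
    rw [← h2]
    constructor
    · intro h; rw [h, map_zero]
    · intro h
      obtain ⟨r, hr⟩ := Ideal.Quotient.mk_surjective (AdicCompletion.eval J R n x)
      rw [← hr] at h ⊢
      rw [Ideal.Quotient.factor_mk, Ideal.Quotient.eq_zero_iff_mem] at h
      rw [Ideal.Quotient.eq_zero_iff_mem, smul_eq_mul, Ideal.mul_top]
      exact h
  constructor
  · intro n r hr
    rw [key, AdicCompletion.algebraMap_apply] at hr
    rw [← Ideal.Quotient.eq_zero_iff_mem, ← hr]
    exact (AdicCompletion.evalₐ_of J n r).symm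
  · intro n s
    obtain ⟨r, hr⟩ := Ideal.Quotient.mk_surjective (AdicCompletion.evalₐ J n s)
    refine ⟨r, ?_⟩
    rw [key, map_sub, sub_eq_zero, ← hr]
    exact (AdicCompletion.evalₐ_of J n r).symm

/-- The completion is complete for the extended ideal. -/
theorem isAdicComplete_map (J : Ideal R) (hJ : J.FG) :
    IsAdicComplete (J.map (algebraMap R (AdicCompletion J R))) (AdicCompletion J R) :=
  (IsAdicComplete.map_algebraMap_iff J (AdicCompletion J R)).2 (AdicCompletion.isAdicComplete hJ)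

end K223.Rig
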