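import Groth.Agent.EtDesc.K223.RigAlg
import Groth.Agent.EtBC.K3.RigClop

/-!
# The statement on clopen subsets for the completion (the statement of S16579)
-/

set_option autoImplicit false
universe u

open CategoryTheory AlgebraicGeometry Topology

namespace K223.Rig

section

variable {X Y : Type*} [TopologicalSpace X] [TopologicalSpace Y]

theorem isClp_image {U : Set X} (hU : IsOpen U) {V : Set ↥U} (hV : IsClopen V) :
    IsClp U (Subtype.val '' V) := by
  have ho : IsOpenMap (Subtype.val : ↥U → X) := hU.isOpenMap_subtype_val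
  refine ⟨fun _ ⟨x, _, e⟩ => e ▸ x.2, ho _ hV.2, ?_⟩
  have e : U \ Subtype.val '' V = Subtype.val '' Vᶜ := by
    ext x
    constructor
    · rintro ⟨hx, hx'⟩
      exact ⟨⟨x, hx⟩, fun h => hx' ⟨_, h, rfl⟩, rfl⟩
    · rintro ⟨y, hy, rfl⟩
      refine ⟨y.2, ?_⟩
      rintro ⟨z, hz, e⟩
      exact hy (Subtype.ext e ▸ hz)
  rw [e]
  exact ho _ hV.compl.2

theorem IsClp.isClopen {U C : Set X} (h : IsClp U C) : IsClopen (Subtype.val ⁻¹' C : Set ↥U) := by
  refine ⟨⟨?_⟩, h.op.preimage continuous_subtype_val⟩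
  have e : (Subtype.val ⁻¹' C : Set ↥U)ᶜ = Subtype.val ⁻¹' (U \ C) := by
    ext x
    exact ⟨fun hx => ⟨x.2, hx⟩, fun hx => hx.2⟩
  rw [e]
  exact h.cl.preimage continuous_subtype_val

/-- From open-closed subsets of `U` to clopen subsets of the subtype. -/
theorem bijective_clopen {f : Y → X} {U : Set X} (hU : IsOpen U) (hf : Continuous f)
    (hi : CInj f U) (hs : CSurj f U)
    (g : ↥(f ⁻¹' U) → ↥U) (hg : ∀ y, (g y : X) = f y) (hgc : Continuous g) :
    Function.Bijective (fun V : {V : Set ↥U // IsClopen V} =>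
      (⟨g ⁻¹' V.1, V.2.preimage hgc⟩ : {V' : Set ↥(f ⁻¹' U) // IsClopen V'})) := by
  constructor
  · rintro ⟨V, hV⟩ ⟨W, hW⟩ e
    have e' : g ⁻¹' V = g ⁻¹' W := congrArg Subtype.val e
    have key : ∀ V : Set ↥U, f ⁻¹' (Subtype.val '' V) = Subtype.val '' (g ⁻¹' V) := by
      intro V
      ext y
      constructor
      · rintro ⟨v, hv, e⟩
        have hy : f y ∈ U := e ▸ v.2
        refine ⟨⟨y, hy⟩, ?_, rfl⟩
        have : g ⟨y, hy⟩ = v := Subtype.ext ((hg _).trans e.symm)
        show g ⟨y, hy⟩ ∈ V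
        rwa [this]
      · rintro ⟨z, hz, rfl⟩
        exact ⟨g z, hz, hg z⟩
    have h1 := hi _ _ (isClp_image hU hV) (isClp_image hU hW) (by rw [key, key, e'])
    exact Subtype.ext (Subtype.val_injective.image_injective h1)
  · rintro ⟨V', hV'⟩
    obtain ⟨C, hC, e⟩ := hs _ (isClp_image (hU.preimage hf) hV')
    refine ⟨⟨_, hC.isClopen⟩, Subtype.ext ?_⟩
    ext y
    change (g y : X) ∈ C ↔ y ∈ V'
    rw [hg y]
    change (y : Y) ∈ f ⁻¹' C ↔ _
    rw [e]
    exact ⟨fun ⟨z, hz, h⟩ => Subtype.ext h ▸ hz, fun h => ⟨y, h, rfl⟩⟩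

end

/-- The statement of S16579. -/
theorem clopen_bijective (A : Type u) [CommRing A] (I : Ideal A) (hI : I.FG) [HenselianRing A I]
    (U : (Spec (CommRingCat.of A)).Opens) (hU : IsCompact (U : Set (Spec (CommRingCat.of A))))
    (hUI : ∀ x : Spec (CommRingCat.of A), x ∉ U → I ≤ x.asIdeal) :
    Function.Bijective (fun V : {V : Set ↥U // IsClopen V} =>
      (⟨((Spec.map (CommRingCat.ofHom (algebraMap A (AdicCompletion I A)))) ∣_ U).base.hom ⁻¹' V.1, V.2.preimage ((Spec.map (CommRingCat.ofHom (algebraMap A (AdicCompletion I A)))) ∣_ U).base.hom.continuous⟩ :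
        {V' : Set ↥((Spec.map (CommRingCat.ofHom (algebraMap A (AdicCompletion I A)))) ⁻¹ᵁ U) // IsClopen V'})) := by
  have := isAdicComplete_map I hI
  have hUJ : DD I ⊆ (U.carrier : Set (PrimeSpectrum A)) := fun x hx => by
    by_contra h
    exact hx (hUI x h)
  have hS : I.map (algebraMap A (AdicCompletion I A)) ≤ Ideal.jacobson ⊥ :=
    IsAdicComplete.le_jacobson_bot _
  exact bijective_clopen (f := PrimeSpectrum.comap (algebraMap A (AdicCompletion I A)))
    (U := (U.carrier : Set (PrimeSpectrum A))) U.isOpen (PrimeSpectrum.continuous_comap _)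
    ((appr_completion I hI).cInj hI HenselianRing.jac hUJ)
    ((appr_completion I hI).cSurj hI hS U.isOpen hU hUJ) _ (fun y => morphismRestrict_base_coe _ _ _)
    ((Spec.map (CommRingCat.ofHom (algebraMap A (AdicCompletion I A)))) ∣_ U).base.hom.continuous

theorem clopC : K3.RigClop.ClopC.{u} := fun A _ I hI _ U hU hUI => clopen_bijective A I hI U hU hUI

end K223.Rig
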