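import Groth.Agent.EtDesc.K223.RigVal
import Mathlib.RingTheory.Spectrum.Prime.ConstructibleSet

/-!
# Open and closed subsets of an open set `U ⊇ D(J)`

* `IsClp U C` : `C` is open and closed in the open set `U`;
* `CInj h U`, `CSurj h U` : injectivity / surjectivity of the map `C ↦ h ⁻¹' C` from open-closed subsets
  of `U` to open-closed subsets of `h ⁻¹' U`.
* `exists_glue` : glueing of open-closed subsets of `D(J)` and of `comap φ ⁻¹' U`.
-/

set_option autoImplicit false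
universe u

open PrimeSpectrum Topology

namespace K223.Rig

section Top

variable {X Y Z : Type*} [TopologicalSpace X] [TopologicalSpace Y] [TopologicalSpace Z]

/-- `C` is open and closed in the open set `U`. -/
structure IsClp (U C : Set X) : Prop where
  sub : C ⊆ U
  op : IsOpen C
  cl : IsOpen (U \ C)

theorem IsClp.compl {U C : Set X} (h : IsClp U C) : IsClp U (U \ C) :=
  ⟨Set.sdiff_subset, h.cl, by
    rw [Set.sdiff_sdiff_cancel_left h.sub]; exact h.op⟩

theorem IsClp.preimage {U C : Set X} (h : IsClp U C) {f : Y → X} (hf : Continuous f) :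
    IsClp (f ⁻¹' U) (f ⁻¹' C) :=
  ⟨Set.preimage_mono h.sub, h.op.preimage hf, by
    rw [← Set.preimage_sdiff]; exact h.cl.preimage hf⟩

theorem IsClp.inter {U C V : Set X} (h : IsClp U C) (hV : IsOpen V) : IsClp (V ∩ U) (V ∩ C) :=
  ⟨Set.inter_subset_inter_right _ h.sub, hV.inter h.op, by
    rw [← Set.inter_sdiff_distrib_left]; exact hV.inter h.cl⟩

theorem IsClp.of_inter {U C V : Set X} (h : IsClp U C) (hV : IsOpen V) (hVU : V ⊆ U) :
    IsClp V (V ∩ C) := by
  have := h.inter hV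
  rwa [Set.inter_eq_left.2 hVU] at this

theorem IsClp.isCompact {U C : Set X} (h : IsClp U C) (hU : IsCompact U) : IsCompact C := by
  have e : C = U ∩ (U \ C)ᶜ := by
    ext x
    constructor
    · exact fun hx => ⟨h.sub hx, fun h' => h'.2 hx⟩
    · rintro ⟨hx, hx'⟩
      by_contra hc
      exact hx' ⟨hx, hc⟩
  rw [e]
  exact hU.inter_right h.cl.isClosed_compl

/-- Injectivity on open-closed subsets. -/
def CInj (f : Y → X) (U : Set X) : Prop :=
  ∀ C D, IsClp U C → IsClp U D → f ⁻¹' C = f ⁻¹' D → C = D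

/-- Surjectivity on open-closed subsets. -/
def CSurj (f : Y → X) (U : Set X) : Prop :=
  ∀ C', IsClp (f ⁻¹' U) C' → ∃ C, IsClp U C ∧ f ⁻¹' C = C'

theorem cInj_of_meets {f : Y → X} {U : Set X} (h : ∀ x ∈ U, ∃ y, x ⤳ f y ∧ f y ∈ U) : CInj f U := by
  have key : ∀ C D, IsClp U C → IsClp U D → f ⁻¹' C = f ⁻¹' D → C ⊆ D := by
    intro C D hC hD e x hx
    by_contra hxD
    obtain ⟨y, hy, hyU⟩ := h x (hC.sub hx)
    have h1 : f y ∈ C := by
      by_contra h'
      exact (hy.mem_open hC.cl ⟨hyU, h'⟩).2 hx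
    have h2 : f y ∉ D := fun h' => hxD (hy.mem_open hD.op h')
    exact h2 (show y ∈ f ⁻¹' D by rw [← e]; exact h1)
  exact fun C D hC hD e => (key C D hC hD e).antisymm (key D C hD hC e.symm)

theorem CInj.comp {f : Y → X} {g : Z → Y} {U : Set X} (hf' : Continuous f) (hf : CInj f U)
    (hg : CInj g (f ⁻¹' U)) : CInj (f ∘ g) U := fun C D hC hD e =>
  hf C D hC hD (hg _ _ (hC.preimage hf') (hD.preimage hf') e)

theorem CSurj.comp {f : Y → X} {g : Z → Y} {U : Set X} (hf : CSurj f U)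
    (hg : CSurj g (f ⁻¹' U)) : CSurj (f ∘ g) U := fun C' hC' => by
  obtain ⟨D, hD, e⟩ := hg C' hC'
  obtain ⟨C, hC, e'⟩ := hf D hD
  exact ⟨C, hC, by rw [Set.preimage_comp, e', e]⟩

theorem CSurj.of_comp {f : Y → X} {g : Z → Y} {U : Set X} (hf' : Continuous f) (hg' : Continuous g)
    (h : CSurj (f ∘ g) U) (hg : CInj g (f ⁻¹' U)) : CSurj f U := fun D hD => by
  obtain ⟨C, hC, e⟩ := h (g ⁻¹' D) (hD.preimage hg')
  exact ⟨C, hC, hg _ _ (hC.preimage hf') hD e⟩

theorem cSurj_of_isHomeomorph {f : Y → X} (hf : IsHomeomorph f) (U : Set X) : CSurj f U := by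
  intro C' hC'
  refine ⟨f '' C', ⟨?_, hf.isOpenMap _ hC'.op, ?_⟩, hf.injective.preimage_image C'⟩
  · rintro _ ⟨y, hy, rfl⟩
    exact hC'.sub hy
  · have e : U \ f '' C' = f '' (f ⁻¹' U \ C') := by
      rw [Set.image_sdiff hf.injective, Set.image_preimage_eq _ hf.surjective]
    rw [e]
    exact hf.isOpenMap _ hC'.cl

end Top

variable {R S : Type u} [CommRing R] [CommRing S]

/-- The open set `D(J)`. -/
def DD (J : Ideal R) : Set (PrimeSpectrum R) := {x | ¬ J ≤ x.asIdeal}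

theorem DD_eq (J : Ideal R) : DD J = (zeroLocus (J : Set R))ᶜ := by
  ext x; rfl

theorem isOpen_DD (J : Ideal R) : IsOpen (DD J) := by
  rw [DD_eq]; exact (isClosed_zeroLocus _).isOpen_compl

theorem isCompact_DD {J : Ideal R} (hJ : J.FG) : IsCompact (DD J) := by
  rw [DD_eq]
  exact (isCompact_isOpen_iff_ideal.2 ⟨J, hJ, rfl⟩).1

theorem comap_preimage_DD (J : Ideal R) (φ : R →+* S) : comap φ ⁻¹' DD J = DD (J.map φ) := by
  ext x
  exact not_congr Ideal.map_le_iff_le_comap.symm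

theorem DD_span_singleton (f : R) : DD (Ideal.span {f}) = basicOpen f := by
  ext x
  simp only [DD, Set.mem_ofPred_eq, SetLike.mem_coe, mem_basicOpen]
  rw [Ideal.span_singleton_le_iff_mem]

theorem Appr.cInj {J : Ideal R} (hJ : J.FG) (hjac : J ≤ Ideal.jacobson ⊥) {φ : R →+* S}
    (h : Appr J φ) {U : Set (PrimeSpectrum R)} (hU : DD J ⊆ U) : CInj (comap φ) U := by
  refine cInj_of_meets fun x hx => ?_
  obtain ⟨q, hq, h1 | h2⟩ := h.exists_image hJ hjac x
  · exact ⟨q, hq, by rw [h1.2]; exact hx⟩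
  · exact ⟨q, hq, hU h2⟩

theorem isCompact_preimage (φ : R →+* S) {U : Set (PrimeSpectrum R)} (hU : IsOpen U)
    (hUc : IsCompact U) : IsCompact (comap φ ⁻¹' U) := by
  obtain ⟨I, hI, rfl⟩ := isCompact_isOpen_iff_ideal.1 ⟨hUc, hU⟩
  have h := comap_preimage_DD I φ
  rw [DD_eq] at h
  rw [h]
  exact isCompact_DD (hI.map φ)

section Glue

/-- The glued set. -/
def gl (J : Ideal R) (φ : R →+* S) (C₁ : Set (PrimeSpectrum R)) (C' : Set (PrimeSpectrum S)) :
    Set (PrimeSpectrum R) :=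
  {x | (x ∈ DD J ∧ x ∈ C₁) ∨ (x ∉ DD J ∧ ∃ y', comap φ y' = x ∧ y' ∈ C')}

theorem Appr.unique_point {J : Ideal R} {φ : R →+* S} (h : Appr J φ) {y y' : PrimeSpectrum S}
    (e : comap φ y = comap φ y') (hy : J ≤ (comap φ y).asIdeal) : y = y' := by
  apply PrimeSpectrum.ext
  ext s
  obtain ⟨r, hr⟩ := h.surj 1 s
  rw [pow_one] at hr
  rw [mem_iff y hy s r hr, mem_iff y' (e ▸ hy) s r hr, e]

variable {J : Ideal R} (hJ : J.FG) {φ : R →+* S} (h : Appr J φ)
  {U : Set (PrimeSpectrum R)} (hU : IsOpen U) (hUc : IsCompact U) (hUJ : DD J ⊆ U)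
  {C₁ : Set (PrimeSpectrum R)} {C' : Set (PrimeSpectrum S)}

include h in
theorem preimage_gl (e : comap φ ⁻¹' C₁ ∩ comap φ ⁻¹' (DD J) = C' ∩ comap φ ⁻¹' (DD J)) :
    comap φ ⁻¹' (gl J φ C₁ C') = C' := by
  ext y
  by_cases hy : comap φ y ∈ DD J
  · constructor
    · rintro (⟨-, h1⟩ | ⟨h1, -⟩)
      · exact ((Set.ext_iff.1 e y).1 ⟨h1, hy⟩).1
      · exact absurd hy h1
    · intro hy'
      exact Or.inl ⟨hy, ((Set.ext_iff.1 e y).2 ⟨hy', hy⟩).1⟩
  · constructor
    · rintro (⟨h1, -⟩ | ⟨-, y', hy', h1⟩)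
      · exact absurd h1 hy
      · have h2 : J ≤ (comap φ y').asIdeal := by rw [hy']; exact not_not.1 hy
        rw [← h.unique_point hy' h2]
        exact h1
    · intro hy'
      exact Or.inr ⟨hy, y, rfl, hy'⟩

include h hJ hU hUc hUJ in
theorem isOpen_gl (hC₁ : IsClp (DD J) C₁) (hC' : IsClp (comap φ ⁻¹' U) C')
    (e : comap φ ⁻¹' C₁ ∩ comap φ ⁻¹' (DD J) = C' ∩ comap φ ⁻¹' (DD J)) :
    IsOpen (gl J φ C₁ C') := by
  apply isOpen_of_stableUnderGeneralization_of_isConstructible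
  · intro x y hyx hx
    -- `y ⤳ x`, `x ∈ gl`
    rcases hx with ⟨hx, hx1⟩ | ⟨hx, x', rfl, hx1⟩
    · exact Or.inl ⟨hyx.mem_open (isOpen_DD J) hx, hyx.mem_open hC₁.op hx1⟩
    · have hxJ : J ≤ (comap φ x').asIdeal := not_not.1 hx
      by_cases hy : y ∈ DD J
      · refine Or.inl ⟨hy, ?_⟩
        obtain ⟨q, hq1, hq2, hq3⟩ := h.exists_spec hJ y (comap φ x') hyx hy hxJ x' rfl
        have hqC : q ∈ C' := hq1.mem_open hC'.op hx1
        have hqD : comap φ q ∈ DD J := fun h' => hq2 (Ideal.map_le_iff_le_comap.2 h')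
        have h1 : comap φ q ∈ C₁ := ((Set.ext_iff.1 e q).2 ⟨hqC, hqD⟩).1
        exact hq3.mem_open hC₁.op h1
      · refine Or.inr ⟨hy, ?_⟩
        obtain ⟨y', hy'⟩ := h.exists_point y (not_not.1 hy)
        refine ⟨y', hy', ?_⟩
        have hs : y' ⤳ x' := by
          rw [← PrimeSpectrum.le_iff_specializes]
          intro s hs
          obtain ⟨r, hr⟩ := h.surj 1 s
          rw [pow_one] at hr
          have hyJ : J ≤ (comap φ y').asIdeal := by rw [hy']; exact not_not.1 hy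
          have h1 := (mem_iff y' hyJ s r hr).1 hs
          rw [hy'] at h1
          exact (mem_iff x' hxJ s r hr).2 ((PrimeSpectrum.le_iff_specializes _ _).2 hyx h1)
        exact hs.mem_open hC'.op hx1
  · have hC'c : IsCompact C' := hC'.isCompact (isCompact_preimage φ hU hUc)
    obtain ⟨s, hs⟩ := isCompact_isOpen_iff.1 ⟨hC'c, hC'.op⟩
    choose r hr using fun x : S => h.surj 1 x
    classical
    let O : Set (PrimeSpectrum R) := (zeroLocus ((s.image r : Finset R) : Set R))ᶜ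
    have hO : IsCompact O ∧ IsOpen O := isCompact_isOpen_iff.2 ⟨_, rfl⟩
    have e1 : gl J φ C₁ C' = C₁ ∪ ((DD J)ᶜ ∩ O) := by
      ext x
      constructor
      · rintro (⟨-, h1⟩ | ⟨h1, y, rfl, hy⟩)
        · exact Or.inl h1
        · refine Or.inr ⟨h1, fun h2 => ?_⟩
          rw [← hs] at hy
          refine hy fun t ht => ?_
          have h3 := h2 (Finset.mem_coe.2 (Finset.mem_image_of_mem r ht))
          have h4 := hr t
          rw [pow_one] at h4
          exact (mem_iff y (not_not.1 h1) t (r t) h4).2 h3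
      · rintro (h1 | ⟨h1, h2⟩)
        · exact Or.inl ⟨hC₁.sub h1, h1⟩
        · obtain ⟨y, hy⟩ := h.exists_point x (not_not.1 h1)
          refine Or.inr ⟨h1, y, hy, ?_⟩
          rw [← hs]
          intro h3
          apply h2
          rintro _ hx
          obtain ⟨t, ht, rfl⟩ := Finset.mem_image.1 (Finset.mem_coe.1 hx)
          have h4 := hr t
          rw [pow_one] at h4
          have hyJ : J ≤ (comap φ y).asIdeal := by rw [hy]; exact not_not.1 h1
          have h5 := (mem_iff y hyJ t (r t) h4).1 (h3 ht)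
          rwa [hy] at h5
    rw [e1]
    have c1 : IsConstructible C₁ := (hC₁.isCompact (isCompact_DD hJ)).isConstructible hC₁.op
    have c2 : IsConstructible (DD J) := (isCompact_DD hJ).isConstructible (isOpen_DD J)
    have c3 : IsConstructible O := hO.1.isConstructible hO.2
    exact c1.union (c2.compl.inter c3)

include h hJ hU hUc hUJ in
/-- Glueing of an open-closed subset of `D(J)` and one of `comap φ ⁻¹' U`. -/
theorem Appr.exists_glue (hC₁ : IsClp (DD J) C₁) (hC' : IsClp (comap φ ⁻¹' U) C')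
    (e : comap φ ⁻¹' C₁ ∩ comap φ ⁻¹' (DD J) = C' ∩ comap φ ⁻¹' (DD J)) :
    ∃ C, IsClp U C ∧ comap φ ⁻¹' C = C' := by
  refine ⟨gl J φ C₁ C', ⟨?_, isOpen_gl hJ h hU hUc hUJ hC₁ hC' e, ?_⟩, preimage_gl h e⟩
  · rintro x (⟨-, h1⟩ | ⟨-, y, rfl, hy⟩)
    · exact hUJ (hC₁.sub h1)
    · exact hC'.sub hy
  · have h1 := isOpen_gl hJ h hU hUc hUJ hC₁.compl hC'.compl (by
      ext y
      have h2 := Set.ext_iff.1 e y
      constructor
      · rintro ⟨⟨h3, h4⟩, h5⟩
        exact ⟨⟨hUJ h5, fun h6 => h4 (h2.2 ⟨h6, h5⟩).1⟩, h5⟩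
      · rintro ⟨⟨h3, h4⟩, h5⟩
        exact ⟨⟨h5, fun h6 => h4 (h2.1 ⟨h6, h5⟩).1⟩, h5⟩)
    have e2 : U \ gl J φ C₁ C' = gl J φ (DD J \ C₁) (comap φ ⁻¹' U \ C') := by
      ext x
      constructor
      · rintro ⟨hx, hx'⟩
        by_cases hxJ : x ∈ DD J
        · exact Or.inl ⟨hxJ, hxJ, fun h3 => hx' (Or.inl ⟨hxJ, h3⟩)⟩
        · obtain ⟨y, hy⟩ := h.exists_point x (not_not.1 hxJ)
          refine Or.inr ⟨hxJ, y, hy, ?_, fun h3 => hx' (Or.inr ⟨hxJ, y, hy, h3⟩)⟩
          rw [Set.mem_preimage, hy]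
          exact hx
      · rintro (⟨h3, h4, h5⟩ | ⟨h3, y, rfl, h4, h5⟩)
        · refine ⟨hUJ h3, ?_⟩
          rintro (⟨-, h6⟩ | ⟨h6, -⟩)
          · exact h5 h6
          · exact h6 h3
        · refine ⟨h4, ?_⟩
          rintro (⟨h6, -⟩ | ⟨-, y', hy', h6⟩)
          · exact h3 h6
          · have h7 : J ≤ (comap φ y').asIdeal := by rw [hy']; exact not_not.1 h3
            rw [h.unique_point hy' h7] at h6
            exact h5 h6
    rw [e2]
    exact h1

include h hJ hU hUc hUJ in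
/-- Surjectivity on open-closed subsets of `D(J)` implies surjectivity for every `U ⊇ D(J)`. -/
theorem Appr.cSurj_of_DD (hs : CSurj (comap φ) (DD J)) : CSurj (comap φ) U := by
  intro C' hC'
  have h1 : IsClp (comap φ ⁻¹' DD J) (comap φ ⁻¹' DD J ∩ C') :=
    hC'.of_inter ((isOpen_DD J).preimage (continuous_comap φ)) (Set.preimage_mono hUJ)
  obtain ⟨C₁, hC₁, e⟩ := hs _ h1
  refine h.exists_glue hJ hU hUc hUJ hC₁ hC' ?_
  rw [e]
  ext y
  constructor
  · rintro ⟨⟨h1, h2⟩, -⟩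
    exact ⟨h2, h1⟩
  · rintro ⟨h1, h2⟩
    exact ⟨⟨h2, h1⟩, h2⟩

end Glue

end K223.Rig
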