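import Groth.Agent.EtDesc.K223.RigClp
import Groth.Agent.Etbc.H203.Newton
import Mathlib.RingTheory.Localization.Away.Basic

/-!
# Open-closed subsets of `D(f)` for a henselian pair `(R, (f))`
-/

set_option autoImplicit false
universe u

open PrimeSpectrum Topology

namespace K223.Rig

variable {R S : Type u} [CommRing R] [CommRing S]

theorem exists_rep (f : S) {C' : Set (PrimeSpectrum S)} (hC' : IsClp (DD (Ideal.span {f})) C') :
    ∃ (N : ℕ) (x : S), x ^ 2 = f ^ N * x ∧ C' = {q | f ∉ q.asIdeal ∧ x ∉ q.asIdeal} := by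
  let L := Localization.Away f
  let c : PrimeSpectrum L → PrimeSpectrum S := comap (algebraMap S L)
  have hc : Continuous c := continuous_comap _
  have hrange : Set.range c = basicOpen f := localization_away_comap_range L f
  have hcl : IsClopen (c ⁻¹' C') := by
    refine ⟨⟨?_⟩, hC'.op.preimage hc⟩
    have e : (c ⁻¹' C')ᶜ = c ⁻¹' (DD (Ideal.span {f}) \ C') := by
      ext q
      refine ⟨fun h => ⟨?_, h⟩, fun h => h.2⟩
      rw [DD_span_singleton, SetLike.mem_coe]
      exact hrange.le ⟨q, rfl⟩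
    rw [e]
    exact hC'.cl.preimage hc
  obtain ⟨e, he, hCe⟩ := exists_idempotent_basicOpen_eq_of_isClopen hcl
  obtain ⟨n, a, ha⟩ := IsLocalization.Away.surj f e
  have hfu : IsUnit (algebraMap S L f) := IsLocalization.Away.algebraMap_isUnit f
  have h1 : algebraMap S L (a ^ 2) = algebraMap S L (f ^ n * a) := by
    rw [map_pow, ← ha, map_mul, ← ha, map_pow]
    have := he.eq
    linear_combination (algebraMap S L f ^ (2 * n)) * this
  obtain ⟨⟨_, m, rfl⟩, hm⟩ := (IsLocalization.eq_iff_exists (Submonoid.powers f) L).1 h1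
  have hm' : f ^ m * a ^ 2 = f ^ m * (f ^ n * a) := hm
  refine ⟨m + n, f ^ m * a, by linear_combination (f ^ m) * hm', ?_⟩
  have key : ∀ q₀ : PrimeSpectrum L, c q₀ ∈ C' ↔ f ^ m * a ∉ (c q₀).asIdeal := by
    intro q₀
    have h2 : c q₀ ∈ C' ↔ e ∉ q₀.asIdeal := Set.ext_iff.1 hCe q₀
    have hfq : algebraMap S L f ∉ q₀.asIdeal := fun h' =>
      q₀.isPrime.ne_top (Ideal.eq_top_of_isUnit_mem _ h' hfu)
    have h3 : f ^ m * a ∈ (c q₀).asIdeal ↔ e ∈ q₀.asIdeal := by
      change algebraMap S L (f ^ m * a) ∈ q₀.asIdeal ↔ _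
      rw [map_mul, ← ha, map_pow]
      constructor
      · intro h4
        rcases q₀.isPrime.mem_or_mem h4 with h5 | h5
        · exact absurd (q₀.isPrime.mem_of_pow_mem _ h5) hfq
        · rcases q₀.isPrime.mem_or_mem h5 with h6 | h6
          · exact h6
          · exact absurd (q₀.isPrime.mem_of_pow_mem _ h6) hfq
      · intro h4
        exact Ideal.mul_mem_left _ _ (Ideal.mul_mem_right _ _ h4)
    rw [h2, h3]
  ext q
  constructor
  · intro hq
    have hfq : q ∈ (basicOpen f : Set (PrimeSpectrum S)) := by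
      rw [← DD_span_singleton]; exact hC'.sub hq
    obtain ⟨q₀, rfl⟩ := hrange.ge hfq
    exact ⟨hfq, (key q₀).1 hq⟩
  · rintro ⟨hfq, hq⟩
    obtain ⟨q₀, rfl⟩ := hrange.ge (show q ∈ (basicOpen f : Set (PrimeSpectrum S)) from hfq)
    exact (key q₀).2 hq

theorem isUnit_of_jac {R : Type*} [CommRing R] {f : R} (hf : f ∈ Ideal.jacobson (⊥ : Ideal R))
    (b : R) : IsUnit (1 + f * b) := by
  have h := Ideal.mem_jacobson_bot.1 hf b
  rwa [add_comm] at h

theorem exists_newton (f : R) [HenselianRing R (Ideal.span {f})] {φ : R →+* S}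
    (h : Appr (Ideal.span {f}) φ) (N : ℕ) (x : S) (hx : x ^ 2 = (φ f) ^ N * x) :
    ∃ y : R, y ^ 2 = f ^ N * y ∧ ∃ t, φ y - x = (φ f) ^ (N + 1) * t := by
  have hmap : (Ideal.span {f}).map φ = Ideal.span {φ f} := by
    rw [Ideal.map_span, Set.image_singleton]
  set M := 2 * (2 * N) + (N + 1) with hM
  obtain ⟨a, ha⟩ := h.surj M x
  rw [hmap, Ideal.span_singleton_pow, Ideal.mem_span_singleton] at ha
  obtain ⟨t, ht⟩ := ha
  have h1 : φ (a ^ 2 - f ^ N * a) ∈ ((Ideal.span {f}).map φ) ^ M := by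
    rw [hmap, Ideal.span_singleton_pow, Ideal.mem_span_singleton]
    refine ⟨-t * (φ a + x - φ f ^ N), ?_⟩
    rw [map_sub, map_pow, map_mul, map_pow]
    linear_combination (-φ a - x + φ f ^ N) * ht + hx
  have h2 := h.inj M _ h1
  rw [Ideal.span_singleton_pow, Ideal.mem_span_singleton] at h2
  obtain ⟨b, hb⟩ := h2
  have hfj : f ∈ Ideal.jacobson (⊥ : Ideal R) :=
    HenselianRing.jac (I := Ideal.span {f}) (Ideal.mem_span_singleton_self f)
  let P : Polynomial R := Polynomial.X ^ 2 - Polynomial.C (f ^ N) * Polynomial.X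
  have hP : ∀ z, P.eval z = z ^ 2 - f ^ N * z := fun z => by simp [P]
  have hP' : P.derivative.eval a = 2 * a - f ^ N := by
    simp only [P, Polynomial.derivative_sub, Polynomial.derivative_X_pow,
      Polynomial.derivative_C_mul, Polynomial.derivative_X, Polynomial.eval_sub,
      Polynomial.eval_mul, Polynomial.eval_C, Polynomial.eval_X, Polynomial.eval_pow,
      Polynomial.eval_one]
    push_cast
    ring
  obtain ⟨k, hk⟩ : ∃ k, M = 2 * N + (k + 1) := ⟨3 * N, by omega⟩
  obtain ⟨v, hv⟩ := isUnit_of_jac hfj (4 * f ^ k * b)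
  obtain ⟨y, ⟨z, hz⟩, hy⟩ := Groth.Agent.Etbc.H203.Newton.exists_root_of_dvd (π := f) P a
    ((2 * a - f ^ N) * ↑v⁻¹) b (2 * N) N (by
      have h3 : (2 * a - f ^ N) ^ 2 = f ^ (2 * N) * (v : R) := by
        rw [hv]
        rw [hk] at hb
        linear_combination 4 * hb
      rw [hP']
      calc f ^ (2 * N) = f ^ (2 * N) * (v * ↑v⁻¹) := by rw [Units.mul_inv, mul_one]
        _ = (f ^ (2 * N) * v) * ↑v⁻¹ := by ring
        _ = (2 * a - f ^ N) * ((2 * a - f ^ N) * ↑v⁻¹) := by rw [← h3]; ring) (by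
      rw [hP, hb])
  rw [hP, sub_eq_zero] at hy
  refine ⟨y, hy, φ z - (φ f) ^ (4 * N) * t, ?_⟩
  have e1 : φ y - φ a = φ f ^ (N + 1) * φ z := by
    rw [← map_sub, hz, map_mul, map_pow]
  linear_combination e1 - ht

/-- Open-closed subsets of `D(f)` over `S` come from `R`. -/
theorem cSurj_principal (f : R) [HenselianRing R (Ideal.span {f})] {φ : R →+* S}
    (h : Appr (Ideal.span {f}) φ) (hS : φ f ∈ Ideal.jacobson (⊥ : Ideal S)) :
    CSurj (comap φ) (DD (Ideal.span {f})) := by
  intro C' hC'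
  rw [comap_preimage_DD, Ideal.map_span, Set.image_singleton] at hC'
  obtain ⟨N, x, hx, rfl⟩ := exists_rep (φ f) hC'
  obtain ⟨y, hy, t, ht⟩ := exists_newton f h N x hx
  have hyy : ∀ q : PrimeSpectrum R, f ∉ q.asIdeal →
      (y ∉ q.asIdeal ↔ y - f ^ N ∈ q.asIdeal) := by
    intro q hfq
    constructor
    · intro hyq
      have h1 : y * (y - f ^ N) ∈ q.asIdeal := by
        have e : y * (y - f ^ N) = 0 := by linear_combination hy
        rw [e]; exact q.asIdeal.zero_mem
      exact (q.isPrime.mem_or_mem h1).resolve_left hyq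
    · intro h1 h2
      have h3 : f ^ N ∈ q.asIdeal := by
        have e : f ^ N = y - (y - f ^ N) := by ring
        rw [e]; exact Ideal.sub_mem _ h2 h1
      exact hfq (q.isPrime.mem_of_pow_mem _ h3)
  refine ⟨{q | f ∉ q.asIdeal ∧ y ∉ q.asIdeal}, ⟨?_, ?_, ?_⟩, ?_⟩
  · rintro q ⟨h1, -⟩
    rw [DD_span_singleton]
    exact h1
  · exact (basicOpen f).2.inter (basicOpen y).2
  · have e : DD (Ideal.span {f}) \ {q | f ∉ q.asIdeal ∧ y ∉ q.asIdeal} =
        (basicOpen f : Set (PrimeSpectrum R)) ∩ basicOpen (y - f ^ N) := by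
      ext q
      rw [DD_span_singleton]
      constructor
      · rintro ⟨h1, h2⟩
        refine ⟨h1, fun h3 => h2 ⟨h1, (hyy q h1).2 h3⟩⟩
      · rintro ⟨h1, h2⟩
        exact ⟨h1, fun h3 => h2 ((hyy q h1).1 h3.2)⟩
    rw [e]
    exact (basicOpen f).2.inter (basicOpen _).2
  · ext q
    change (φ f ∉ q.asIdeal ∧ φ y ∉ q.asIdeal) ↔ (φ f ∉ q.asIdeal ∧ x ∉ q.asIdeal)
    refine and_congr_right fun hfq => not_congr ?_
    -- both `φ y / f ^ N` and `x / f ^ N` are idempotent, and congruent modulo `f`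
    have hy' : φ y * (φ y - φ f ^ N) = 0 := by
      have := congrArg φ hy
      rw [map_pow, map_mul, map_pow] at this
      linear_combination this
    have hx' : x * (x - φ f ^ N) = 0 := by linear_combination hx
    have hpow : φ f ^ N ∉ q.asIdeal := fun h' => hfq (q.isPrime.mem_of_pow_mem _ h')
    constructor
    · intro h1
      by_contra h2
      have h3 : x - φ f ^ N ∈ q.asIdeal := by
        refine (q.isPrime.mem_or_mem (x := x) (y := x - φ f ^ N) ?_).resolve_left h2
        rw [hx']; exact q.asIdeal.zero_mem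
      have h4 : φ f ^ N * (1 + φ f * t) ∈ q.asIdeal := by
        have e : φ f ^ N * (1 + φ f * t) = φ y - (x - φ f ^ N) := by
          rw [pow_succ] at ht
          linear_combination -ht
        rw [e]
        exact Ideal.sub_mem _ h1 h3
      rcases q.isPrime.mem_or_mem h4 with h5 | h5
      · exact hpow h5
      · exact q.isPrime.ne_top (Ideal.eq_top_of_isUnit_mem _ h5 (isUnit_of_jac hS t))
    · intro h1
      by_contra h2
      have h3 : φ y - φ f ^ N ∈ q.asIdeal := by
        refine (q.isPrime.mem_or_mem (x := φ y) (y := φ y - φ f ^ N) ?_).resolve_left h2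
        rw [hy']; exact q.asIdeal.zero_mem
      have h4 : φ f ^ N * (1 + φ f * (-t)) ∈ q.asIdeal := by
        have e : φ f ^ N * (1 + φ f * (-t)) = x - (φ y - φ f ^ N) := by
          rw [pow_succ] at ht
          linear_combination ht
        rw [e]
        exact Ideal.sub_mem _ h1 h3
      rcases q.isPrime.mem_or_mem h4 with h5 | h5
      · exact hpow h5
      · exact q.isPrime.ne_top (Ideal.eq_top_of_isUnit_mem _ h5 (isUnit_of_jac hS _))

end K223.Rig
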