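import Groth.Agent.EtDesc.K223.RigAlg
import Mathlib.RingTheory.TensorProduct.Basic
import Mathlib.RingTheory.IntegralClosure.IsIntegral.Basic

/-!
# Base change of `Appr` along integral algebras
-/

set_option autoImplicit false
universe u

open TensorProduct PrimeSpectrum

namespace K223.Rig

variable {R S C : Type u} [CommRing R] [CommRing S] [CommRing C] [Algebra R S] [Algebra R C]

/-- Base change of `Appr J (R → S)` along `R → C`. -/
theorem Appr.tensor {J : Ideal R} (h : Appr J (algebraMap R S)) :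
    Appr (J.map (algebraMap R C)) (algebraMap C (C ⊗[R] S)) := by
  have hmap : (J.map (algebraMap R C)).map (algebraMap C (C ⊗[R] S)) =
      (J.map (algebraMap R S)).map (Algebra.TensorProduct.includeRight : S →ₐ[R] C ⊗[R] S).toRingHom := by
    rw [Ideal.map_map, Ideal.map_map]
    congr 1
    ext r
    change (algebraMap R C r) ⊗ₜ[R] (1 : S) = (1 : C) ⊗ₜ[R] (algebraMap R S r)
    rw [Algebra.algebraMap_eq_smul_one, Algebra.algebraMap_eq_smul_one, TensorProduct.smul_tmul]
  constructor
  · intro n c hc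
    let K : Ideal C := J.map (algebraMap R C)
    let θ : S →+* C ⧸ K ^ n := h.theta (algebraMap R C) K le_rfl n
    let θ' : S →ₐ[R] C ⧸ K ^ n :=
      { θ with commutes' := fun r => h.theta_map (algebraMap R C) K le_rfl n r }
    let ρ : C ⊗[R] S →ₐ[R] C ⧸ K ^ n :=
      Algebra.TensorProduct.lift (Ideal.Quotient.mkₐ R (K ^ n)) θ' (fun _ _ => Commute.all _ _)
    have hρ : ∀ c, ρ (algebraMap C (C ⊗[R] S) c) = Ideal.Quotient.mk (K ^ n) c := by
      intro c
      change ρ (c ⊗ₜ[R] (1 : S)) = _
      rw [Algebra.TensorProduct.lift_tmul, map_one, mul_one]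
      rfl
    have hle : (K.map (algebraMap C (C ⊗[R] S))) ^ n ≤ RingHom.ker ρ.toRingHom := by
      rw [← Ideal.map_pow, Ideal.map_le_iff_le_comap]
      intro x hx
      change ρ (algebraMap C (C ⊗[R] S) x) = 0
      rw [hρ, Ideal.Quotient.eq_zero_iff_mem]
      exact hx
    have h1 : ρ (algebraMap C (C ⊗[R] S) c) = 0 := hle hc
    rw [hρ, Ideal.Quotient.eq_zero_iff_mem] at h1
    exact h1
  · intro n x
    rw [hmap]
    induction x using TensorProduct.induction_on with
    | zero => exact ⟨0, by simp⟩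
    | tmul c s =>
      obtain ⟨r, hr⟩ := h.surj n s
      refine ⟨algebraMap R C r * c, ?_⟩
      have e : c ⊗ₜ[R] s - algebraMap C (C ⊗[R] S) (algebraMap R C r * c) =
          (c ⊗ₜ[R] (1 : S)) * ((1 : C) ⊗ₜ[R] (s - algebraMap R S r)) := by
        rw [Algebra.TensorProduct.tmul_mul_tmul, mul_one, one_mul, TensorProduct.tmul_sub]
        congr 1
        change (algebraMap R C r * c) ⊗ₜ[R] (1 : S) = _
        rw [← Algebra.smul_def, TensorProduct.smul_tmul, Algebra.algebraMap_eq_smul_one]
      rw [e]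
      refine Ideal.mul_mem_left _ _ ?_
      exact mem_map_pow (Algebra.TensorProduct.includeRight : S →ₐ[R] C ⊗[R] S).toRingHom hr
    | add x y hx hy =>
      obtain ⟨a, ha⟩ := hx
      obtain ⟨b, hb⟩ := hy
      refine ⟨a + b, ?_⟩
      have e : x + y - algebraMap C (C ⊗[R] S) (a + b) =
          (x - algebraMap C (C ⊗[R] S) a) + (y - algebraMap C (C ⊗[R] S) b) := by
        rw [map_add]; ring
      rw [e]
      exact Ideal.add_mem _ ha hb

theorem le_jacobson_of_isIntegral {A B : Type u} [CommRing A] [CommRing B] (f : A →+* B)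
    (hf : f.IsIntegral) {I : Ideal A} (hI : I ≤ Ideal.jacobson ⊥) :
    I.map f ≤ Ideal.jacobson ⊥ := by
  refine le_sInf fun m hm => ?_
  rw [Ideal.map_le_iff_le_comap]
  have : m.IsMaximal := hm.2
  have h1 : (m.comap f).IsMaximal := Ideal.isMaximal_comap_of_isIntegral_of_isMaximal' f hf m
  exact hI.trans (sInf_le ⟨bot_le, h1⟩)

/-- Rigidity for open-closed subsets after an integral base change. -/
theorem Appr.tensor_bij {J : Ideal R} [HenselianRing R J] (hJ : J.FG) [Algebra.IsIntegral R C]
    (h : Appr J (algebraMap R S)) (hS : J.map (algebraMap R S) ≤ Ideal.jacobson ⊥)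
    {U : Set (PrimeSpectrum R)} (hU : IsOpen U) (hUc : IsCompact U) (hUJ : DD J ⊆ U) :
    CInj (comap (algebraMap C (C ⊗[R] S))) (comap (algebraMap R C) ⁻¹' U) ∧
      CSurj (comap (algebraMap C (C ⊗[R] S))) (comap (algebraMap R C) ⁻¹' U) := by
  have h1 := h.tensor (C := C)
  have hC : HenselianRing C (J.map (algebraMap R C)) := Groth.Agent.S0526.result R J C
  have hint : (algebraMap S (S ⊗[R] C)).IsIntegral := by
    have : Algebra.IsIntegral S (S ⊗[R] C) := inferInstance
    exact algebraMap_isIntegral_iff.2 this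
  have hint' : (Algebra.TensorProduct.includeRight : S →ₐ[R] C ⊗[R] S).toRingHom.IsIntegral := by
    intro x
    obtain ⟨y, rfl⟩ := (Algebra.TensorProduct.comm R S C).surjective x
    obtain ⟨P, hP, hP'⟩ := hint y
    refine ⟨P, hP, ?_⟩
    have h2 := congrArg (Algebra.TensorProduct.comm R S C) hP'
    rw [map_zero] at h2
    have h3 := Polynomial.hom_eval₂ P (algebraMap S (S ⊗[R] C))
      (Algebra.TensorProduct.comm R S C).toAlgHom.toRingHom y
    have h4 : (Algebra.TensorProduct.comm R S C).toAlgHom.toRingHom.comp (algebraMap S (S ⊗[R] C)) =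
        (Algebra.TensorProduct.includeRight : S →ₐ[R] C ⊗[R] S).toRingHom := by
      ext s
      rfl
    rw [h4] at h3
    exact h3.symm.trans h2
  have hmap : (J.map (algebraMap R C)).map (algebraMap C (C ⊗[R] S)) =
      (J.map (algebraMap R S)).map (Algebra.TensorProduct.includeRight : S →ₐ[R] C ⊗[R] S).toRingHom := by
    rw [Ideal.map_map, Ideal.map_map]
    congr 1
    ext r
    change (algebraMap R C r) ⊗ₜ[R] (1 : S) = (1 : C) ⊗ₜ[R] (algebraMap R S r)
    rw [Algebra.algebraMap_eq_smul_one, Algebra.algebraMap_eq_smul_one, TensorProduct.smul_tmul]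
  have hjac : (J.map (algebraMap R C)).map (algebraMap C (C ⊗[R] S)) ≤ Ideal.jacobson ⊥ := by
    rw [hmap]
    exact le_jacobson_of_isIntegral _ hint' hS
  have hsub : DD (J.map (algebraMap R C)) ⊆ comap (algebraMap R C) ⁻¹' U := by
    rw [← comap_preimage_DD]
    exact Set.preimage_mono hUJ
  refine ⟨?_, ?_⟩
  · exact h1.cInj (hJ.map _) hC.jac hsub
  · exact h1.cSurj (hJ.map _) hjac (hU.preimage (continuous_comap _))
      (isCompact_preimage _ hU hUc) hsub

end K223.Rig
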