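import Groth.Agent.EtDesc.K223.RigApprox
import Mathlib.RingTheory.Valuation.LocalSubring
import Mathlib.RingTheory.Spectrum.Prime.Topology

/-!
# The valuative lemma

Let `φ : R → S` induce isomorphisms modulo all powers of the finitely generated ideal `J`.  Every
specialization `x ⤳ y` in `Spec R` with `x ∉ V(J)`, `y ∈ V(J)` lifts approximately to `Spec S`: there is a
point `q ∉ V(J S)` specializing to the point over `y`, such that `x ⤳ φ(q)`.
-/

set_option autoImplicit false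
universe u

namespace K223.Rig

theorem exists_valuation {R : Type u} [CommRing R] (p m : Ideal R) [p.IsPrime] [m.IsPrime]
    (hpm : p ≤ m) : ∃ (W : Type u) (_ : CommRing W) (_ : IsDomain W) (_ : ValuationRing W)
      (w : R →+* W), (∀ r, w r = 0 ↔ r ∈ p) ∧ (∀ r, IsUnit (w r) ↔ r ∉ m) := by
  let K := FractionRing (R ⧸ p)
  let f₀ : R →+* K := (algebraMap (R ⧸ p) K).comp (Ideal.Quotient.mk p)
  have hf₀ : ∀ r, f₀ r = 0 ↔ r ∈ p := by
    intro r
    rw [← Ideal.Quotient.eq_zero_iff_mem]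
    exact map_eq_zero_iff (algebraMap (R ⧸ p) K) (IsFractionRing.injective (R ⧸ p) K)
  let f : Localization.AtPrime m →+* K := IsLocalization.lift (M := m.primeCompl) (g := f₀) (by
    rintro ⟨y, hy⟩
    exact isUnit_iff_ne_zero.2 fun h => hy (hpm ((hf₀ y).1 h)))
  have hf : ∀ r, f (algebraMap R _ r) = f₀ r := fun r => IsLocalization.lift_eq _ _
  obtain ⟨A, hA, hloc⟩ := IsLocalRing.exists_factor_valuationRing f
  let w₀ : Localization.AtPrime m →+* A.toSubring := f.codRestrict A.toSubring hA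
  refine ⟨A, inferInstance, inferInstance, inferInstance, w₀.comp (algebraMap R _), ?_, ?_⟩
  · intro r
    rw [← hf₀, ← hf]
    constructor
    · intro h
      exact congrArg (Subtype.val : A.toSubring → K) h
    · intro h
      exact Subtype.ext h
  · intro r
    have h1 : IsUnit (w₀ (algebraMap R (Localization.AtPrime m) r)) ↔
        IsUnit (algebraMap R (Localization.AtPrime m) r) :=
      ⟨fun h => hloc.map_nonunit _ h, fun h => h.map _⟩
    have h2 : IsUnit (algebraMap R (Localization.AtPrime m) r) ↔ r ∈ m.primeCompl :=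
      IsLocalization.AtPrime.isUnit_to_map_iff (Localization.AtPrime m) m r
    exact h1.trans h2

variable {R S : Type u} [CommRing R] [CommRing S]

theorem Appr.exists_prime {J : Ideal R} (hJ : J.FG) {φ : R →+* S} (h : Appr J φ) (p m : Ideal R)
    [p.IsPrime] [m.IsPrime] (hpm : p ≤ m) (hp : ¬ J ≤ p) (hm : J ≤ m) (m' : Ideal S)
    (hm' : J.map φ ≤ m') (hmm : m'.comap φ = m) :
    ∃ q : Ideal S, q.IsPrime ∧ q ≤ m' ∧ ¬ J.map φ ≤ q ∧ p ≤ q.comap φ := by
  obtain ⟨W, _, _, _, w, hw0, hwu⟩ := exists_valuation p m hpm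
  obtain ⟨g, hg⟩ : ∃ g : W, J.map w = Ideal.span {g} := by
    have h1 : (J.map w).IsPrincipal := IsBezout.isPrincipal_of_FG _ (hJ.map w)
    obtain ⟨g, hg⟩ := h1
    exact ⟨g, hg⟩
  have hg0 : g ≠ 0 := by
    rintro rfl
    refine hp fun j hj => ?_
    rw [← hw0]
    have h1 : w j ∈ J.map w := Ideal.mem_map_of_mem w hj
    rw [hg, Ideal.mem_span_singleton] at h1
    exact zero_dvd_iff.1 h1
  have hgu : ¬ IsUnit g := by
    intro hu
    have h1 : J.map w ≤ IsLocalRing.maximalIdeal W := by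
      rw [Ideal.map_le_iff_le_comap]
      intro j hj
      rw [Ideal.mem_comap, IsLocalRing.mem_maximalIdeal, mem_nonunits_iff, hwu, not_not]
      exact hm hj
    have h2 : g ∈ IsLocalRing.maximalIdeal W := h1 (by rw [hg]; exact Ideal.mem_span_singleton_self g)
    exact h2 hu
  let θ : ∀ n, S →+* W ⧸ (Ideal.span {g}) ^ n := h.theta w (Ideal.span {g}) hg.le
  have hθ : ∀ n s r, s - φ r ∈ (J.map φ) ^ n → (θ n s = 0 ↔ g ^ n ∣ w r) := by
    intro n s r hs
    change h.theta w (Ideal.span {g}) hg.le n s = 0 ↔ _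
    rw [h.theta_apply w _ hg.le n r s hs, Ideal.Quotient.eq_zero_iff_mem, Ideal.span_singleton_pow,
      Ideal.mem_span_singleton]
  have hmono : ∀ {m n : ℕ} (_ : m ≤ n) (s : S), θ n s = 0 → θ m s = 0 := by
    intro m n hmn s hs
    have h1 := RingHom.congr_fun (h.theta_factor w (Ideal.span {g}) hg.le hmn) s
    rw [RingHom.comp_apply] at h1
    refine h1.symm.trans ?_
    rw [show h.theta w (Ideal.span {g}) hg.le n s = 0 from hs, map_zero]
  let q : Ideal S := ⨅ n, RingHom.ker (θ n)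
  have hq : ∀ s, s ∈ q ↔ ∀ n, θ n s = 0 := fun s => by
    rw [Submodule.mem_iInf]; rfl
  refine ⟨q, ⟨?_, ?_⟩, ?_, ?_, ?_⟩
  · intro htop
    have h1 : (1 : S) ∈ q := by rw [htop]; exact Submodule.mem_top
    have h2 := (hθ 1 1 1 (by simp)).1 ((hq 1).1 h1 1)
    rw [pow_one, map_one] at h2
    exact hgu (isUnit_of_dvd_one h2)
  · intro x y hxy
    by_contra hcon
    rw [not_or] at hcon
    obtain ⟨hx, hy⟩ := hcon
    rw [hq, not_forall] at hx hy
    obtain ⟨n, hn⟩ := hx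
    obtain ⟨k, hk⟩ := hy
    obtain ⟨r, hr⟩ := h.surj (max n k + max n k) x
    obtain ⟨t, ht⟩ := h.surj (max n k + max n k) y
    set N := max n k with hN
    have hr1 : ¬ g ^ N ∣ w r := by
      rw [← hθ N x r (Ideal.pow_le_pow_right (Nat.le_add_left _ _) hr)]
      exact fun h' => hn (hmono (le_max_left _ _) x h')
    have ht1 : ¬ g ^ N ∣ w t := by
      rw [← hθ N y t (Ideal.pow_le_pow_right (Nat.le_add_left _ _) ht)]
      exact fun h' => hk (hmono (le_max_right _ _) y h')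
    have hrt : x * y - φ (r * t) ∈ (J.map φ) ^ (N + N) := by
      have e : x * y - φ (r * t) = y * (x - φ r) + φ r * (y - φ t) := by
        rw [map_mul]; ring
      rw [e]
      exact Ideal.add_mem _ (Ideal.mul_mem_left _ _ hr) (Ideal.mul_mem_left _ _ ht)
    have h3 : g ^ (N + N) ∣ w (r * t) := (hθ (N + N) (x * y) (r * t) hrt).1 ((hq _).1 hxy _)
    have dv : ∀ a : W, ¬ g ^ N ∣ a → ∃ c, ¬ IsUnit c ∧ g ^ N = a * c := by
      intro a ha
      rcases ValuationRing.dvd_total a (g ^ N) with ⟨c, hc⟩ | h'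
      · refine ⟨c, fun hu => ha ?_, hc⟩
        obtain ⟨u, rfl⟩ := hu
        exact ⟨↑u⁻¹, by rw [hc, mul_assoc, Units.mul_inv, mul_one]⟩
      · exact absurd h' ha
    obtain ⟨c, hcu, hc⟩ := dv _ hr1
    obtain ⟨d, -, hd⟩ := dv _ ht1
    obtain ⟨e, he⟩ := h3
    have hr0 : w r ≠ 0 := fun h0 => hr1 (h0 ▸ dvd_zero _)
    have ht0 : w t ≠ 0 := fun h0 => ht1 (h0 ▸ dvd_zero _)
    refine hcu (isUnit_of_dvd_one ⟨d * e, ?_⟩)
    have h4 : w r * w t * 1 = w r * w t * (c * (d * e)) := by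
      calc w r * w t * 1 = g ^ (N + N) * e := by rw [mul_one, ← map_mul, he]
        _ = (g ^ N) * (g ^ N) * e := by rw [pow_add]
        _ = (w r * c) * (w t * d) * e := by rw [← hc, ← hd]
        _ = w r * w t * (c * (d * e)) := by ring
    exact mul_left_cancel₀ (mul_ne_zero hr0 ht0) h4
  · intro s hs
    obtain ⟨r, hr⟩ := h.surj 1 s
    have h1 := (hθ 1 s r hr).1 ((hq s).1 hs 1)
    rw [pow_one] at h1 hr
    have h2 : r ∈ m := by
      by_contra hrm
      exact hgu (isUnit_of_dvd_unit h1 ((hwu r).2 hrm))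
    rw [← hmm, Ideal.mem_comap] at h2
    have e : s = (s - φ r) + φ r := by ring
    rw [e]
    exact m'.add_mem (hm' hr) h2
  · intro hle
    have h1 : J.map w ≤ Ideal.span {g ^ 2} := by
      rw [Ideal.map_le_iff_le_comap]
      intro j hj
      rw [Ideal.mem_comap, Ideal.mem_span_singleton]
      exact (hθ 2 (φ j) j (by simp)).1 ((hq _).1 (hle (Ideal.mem_map_of_mem φ hj)) 2)
    rw [hg, Ideal.span_singleton_le_span_singleton] at h1
    obtain ⟨e, he⟩ := h1
    refine hgu (isUnit_of_dvd_one ⟨e, ?_⟩)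
    have h2 : g * 1 = g * (g * e) := by rw [mul_one]; nth_rewrite 1 [he]; ring
    exact mul_left_cancel₀ hg0 h2
  · intro r hr
    rw [Ideal.mem_comap, hq]
    intro n
    refine (hθ n (φ r) r (by simp)).2 ?_
    rw [(hw0 r).2 hr]
    exact dvd_zero _

open PrimeSpectrum

/-- The valuative lemma. -/
theorem Appr.exists_spec {J : Ideal R} (hJ : J.FG) {φ : R →+* S} (h : Appr J φ)
    (x y : PrimeSpectrum R) (hxy : x ⤳ y) (hx : ¬ J ≤ x.asIdeal) (hy : J ≤ y.asIdeal)
    (y' : PrimeSpectrum S) (hy' : comap φ y' = y) :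
    ∃ q : PrimeSpectrum S, q ⤳ y' ∧ ¬ J.map φ ≤ q.asIdeal ∧ x ⤳ comap φ q := by
  have h1 : y'.asIdeal.comap φ = y.asIdeal := by rw [← hy']; rfl
  obtain ⟨q, hq, hq1, hq2, hq3⟩ := h.exists_prime hJ x.asIdeal y.asIdeal
    ((PrimeSpectrum.le_iff_specializes x y).2 hxy) hx hy y'.asIdeal
    (by rw [Ideal.map_le_iff_le_comap, h1]; exact hy) h1
  exact ⟨⟨q, hq⟩, (PrimeSpectrum.le_iff_specializes _ _).1 hq1, hq2,
    (PrimeSpectrum.le_iff_specializes _ _).1 hq3⟩

/-- Points of `V(J)` lift uniquely. -/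
theorem Appr.exists_point {J : Ideal R} {φ : R →+* S} (h : Appr J φ)
    (y : PrimeSpectrum R) (hy : J ≤ y.asIdeal) : ∃ y' : PrimeSpectrum S, comap φ y' = y := by
  have hJy : J ^ 1 ≤ y.asIdeal := by rw [pow_one]; exact hy
  let π : S →+* R ⧸ y.asIdeal :=
    ((Ideal.Quotient.factor hJy).comp
      (h.equiv 1).symm.toRingHom).comp (Ideal.Quotient.mk _)
  have hπ : ∀ r, π (φ r) = Ideal.Quotient.mk _ r := by
    intro r
    change (Ideal.Quotient.factor hJy) ((h.equiv 1).symm (Ideal.Quotient.mk _ (φ r))) = _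
    rw [← h.equiv_mk, RingEquiv.symm_apply_apply]
    rfl
  refine ⟨⟨RingHom.ker π, RingHom.ker_isPrime π⟩, ?_⟩
  apply PrimeSpectrum.ext
  ext r
  change φ r ∈ RingHom.ker π ↔ _
  rw [RingHom.mem_ker, hπ, Ideal.Quotient.eq_zero_iff_mem]

theorem mem_iff {J : Ideal R} {φ : R →+* S} (y' : PrimeSpectrum S)
    (hy : J ≤ (comap φ y').asIdeal) (s : S) (r : R) (hs : s - φ r ∈ J.map φ) :
    s ∈ y'.asIdeal ↔ r ∈ (comap φ y').asIdeal := by
  have h1 : J.map φ ≤ y'.asIdeal := Ideal.map_le_iff_le_comap.2 hy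
  have h2 := h1 hs
  change _ ↔ φ r ∈ y'.asIdeal
  constructor
  · intro hs'
    have e : φ r = s - (s - φ r) := by ring
    rw [e]
    exact Ideal.sub_mem _ hs' h2
  · intro hr
    have e : s = (s - φ r) + φ r := by ring
    rw [e]
    exact Ideal.add_mem _ h2 hr

/-- Every nonempty closed subset of an open `U ⊇ D(J)` meets the image of `Spec S`. -/
theorem Appr.exists_image {J : Ideal R} (hJ : J.FG) (hjac : J ≤ Ideal.jacobson ⊥) {φ : R →+* S}
    (h : Appr J φ) (x : PrimeSpectrum R) :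
    ∃ q : PrimeSpectrum S, x ⤳ comap φ q ∧ (J ≤ x.asIdeal ∧ comap φ q = x ∨
      ¬ J ≤ (comap φ q).asIdeal) := by
  by_cases hx : J ≤ x.asIdeal
  · obtain ⟨q, hq⟩ := h.exists_point x hx
    exact ⟨q, by rw [hq], Or.inl ⟨hx, hq⟩⟩
  · obtain ⟨m, hm, hxm⟩ := Ideal.exists_le_maximal x.asIdeal x.isPrime.ne_top
    have hJm : J ≤ m := hjac.trans (sInf_le ⟨bot_le, hm⟩)
    let y : PrimeSpectrum R := ⟨m, hm.isPrime⟩
    obtain ⟨y', hy'⟩ := h.exists_point y hJm
    obtain ⟨q, -, hq2, hq3⟩ := h.exists_spec hJ x y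
      ((PrimeSpectrum.le_iff_specializes _ _).1 hxm) hx hJm y' hy'
    exact ⟨q, hq3, Or.inr fun h' => hq2 (Ideal.map_le_iff_le_comap.2 h')⟩

end K223.Rig
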