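import Groth.Agent.EtDesc.K223.MonoEpi
import Groth.Agent.Sga4A.EtDescCrit
import Groth.Agent.S3048

/-!
# Descent of subsheaves along universally submersive morphisms
-/

set_option autoImplicit false
universe u

open CategoryTheory CategoryTheory.Limits AlgebraicGeometry Opposite

namespace K223.SubDesc

open EtDesc Groth.Agent.Sga4A.EtStalk K223.MonoEpi

section General

variable {X : Scheme.{u}} {G F : Sh X} (a : G ⟶ F)

/-- The set of points of `U` near which the section `t` of `F` comes from `G`. -/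
def inSet {U : X.Etale} (t : sect F U) : Set U.left :=
  {x | ∃ (V : X.Etale) (g : V ⟶ U) (y : V.left) (s : sect G V),
    g.left y = x ∧ a.hom.app (op V) s = F.obj.map g.op t}

theorem isOpen_inSet {U : X.Etale} (t : sect F U) : IsOpen (inSet a t) := by
  rw [isOpen_iff_forall_mem_open]
  rintro x ⟨V, g, y, s, hy, hs⟩
  refine ⟨Set.range g.left.base, ?_, ?_, ⟨y, hy⟩⟩
  · rintro _ ⟨w, rfl⟩
    exact ⟨V, g, w, s, rfl, hs⟩
  · have : AlgebraicGeometry.Etale g.left := inferInstance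
    exact (AlgebraicGeometry.Scheme.Hom.isOpenMap g.left).isOpen_range

theorem mem_inSet_iff {U : X.Etale} (t : sect F U) {Ω : Type u} [Field Ω] [IsSepClosed Ω]
    {ξ : Spec (.of Ω) ⟶ X} (l : Spec (.of Ω) ⟶ U.left) (hl : l ≫ U.hom = ξ) :
    l default ∈ inSet a t ↔ ∃ σ : Stk G ξ, mapStk a ξ σ = germ F l hl t := by
  constructor
  · rintro ⟨V, g, y, s, hy, hs⟩
    obtain ⟨m, hm, -⟩ := exists_lift g l y hy
    have hm' : m ≫ V.hom = ξ := by
      rw [← hl, ← hm, Category.assoc]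
      exact congrArg _ (Over.w g.hom).symm
    refine ⟨germ G m hm' s, ?_⟩
    rw [mapStk_germ, hs, germ_res' F g m hm' l hl hm]
  · rintro ⟨σ, hσ⟩
    obtain ⟨V, m, hm, s, rfl⟩ := exists_germ G σ
    rw [mapStk_germ, germ_eq_germ_iff] at hσ
    obtain ⟨W, b, c, n, hn, hb, hc, e⟩ := hσ
    refine ⟨W, c, n default, G.obj.map b.op s, by rw [← hc]; rfl, ?_⟩
    rw [← e]
    exact ConcreteCategory.congr_hom (a.hom.naturality b.op) s

theorem exists_of_inSet [Mono a] {U : X.Etale} (t : sect F U) (h : ∀ x : U.left, x ∈ inSet a t) :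
    ∃ s : sect G U, a.hom.app (op U) s = t := by
  refine app_surjective_of_local a ((mono_iff a).1 inferInstance) U t (fun x => ?_)
  obtain ⟨V, g, y, s, hy, hs⟩ := h x
  exact ⟨V, g, y, s, hy, hs⟩

theorem inSet_res {U V : X.Etale} (t : sect F U) (g : V ⟶ U) (y : V.left)
    (h : g.left y ∈ inSet a t) : y ∈ inSet a (F.obj.map g.op t) := by
  obtain ⟨Ω, _, _, l, rfl⟩ := exists_geomPoint V.left y
  have h1 : (l ≫ g.left) default ∈ inSet a t := h
  rw [mem_inSet_iff a t (l ≫ g.left) (ξ := l ≫ V.hom) (by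
    rw [Category.assoc]; exact congrArg _ (Over.w g.hom))] at h1
  obtain ⟨σ, hσ⟩ := h1
  rw [mem_inSet_iff a _ l rfl]
  exact ⟨σ, by rw [hσ, germ_res' F g l rfl (l ≫ g.left) _ rfl t]⟩

end General

variable {X' X : Scheme.{u}} (f : X' ⟶ X)

theorem mono_pull {G F : Sh X} (a : G ⟶ F) [Mono a] : Mono ((pullSh f).map a) := by
  rw [mono_iff_stk]
  intro Ω _ _ ξ' σ' τ' h
  obtain ⟨σ, rfl⟩ := (pullStk' f _ ξ' (ξ' ≫ f) rfl).surjective σ'
  obtain ⟨τ, rfl⟩ := (pullStk' f _ ξ' (ξ' ≫ f) rfl).surjective τ'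
  rw [← pullStk'_mapStk, ← pullStk'_mapStk] at h
  exact congrArg _ ((mono_iff_stk a).1 inferInstance Ω _ ((pullStk' f _ _ _ _).injective h))

theorem canIso_naturality {G F : Sh X} (a : G ⟶ F) :
    (canIso f G).hom ≫ (pullSh (pullback.snd f f)).map ((pullSh f).map a) =
      (pullSh (pullback.fst f f)).map ((pullSh f).map a) ≫ (canIso f F).hom := by
  refine hom_ext_stk' _ _ (fun Ω _ _ η σ' => ?_)
  rw [mapStk_comp, mapStk_comp]
  obtain ⟨σ'', rfl⟩ := (pullStk' (pullback.fst f f) _ η (η ≫ pullback.fst f f) rfl).surjective σ'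
  obtain ⟨σ, rfl⟩ := (pullStk' f _ (η ≫ pullback.fst f f) ((η ≫ pullback.fst f f) ≫ f)
    rfl).surjective σ''
  have e : (η ≫ pullback.snd f f) ≫ f = (η ≫ pullback.fst f f) ≫ f := by
    rw [Category.assoc, ← pullback.condition, Category.assoc]
  rw [mapStk_canIso' f _ η _ (η ≫ pullback.snd f f) _ rfl rfl rfl e, ← pullStk'_mapStk,
    ← pullStk'_mapStk, ← pullStk'_mapStk, ← pullStk'_mapStk,
    mapStk_canIso' f _ η _ (η ≫ pullback.snd f f) _ rfl rfl rfl e]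

theorem surjective_of_isUnivSubmersive (hf : IsUnivSubmersive f) : Surjective f := ⟨fun x => by
    obtain ⟨y, hy⟩ := (hf X (𝟙 X)).1 x
    refine ⟨pullback.fst f (𝟙 X) y, ?_⟩
    have h : pullback.fst f (𝟙 X) ≫ f = pullback.snd f (𝟙 X) := by
      rw [pullback.condition, Category.comp_id]
    rw [← Scheme.Hom.comp_apply, h]
    exact hy⟩

theorem part_a (hf : IsUnivSubmersive f) {F G₁ G₂ : Sh X} (a₁ : G₁ ⟶ F) (a₂ : G₂ ⟶ F) [Mono a₂]
    (φ : (pullSh f).obj G₁ ≅ (pullSh f).obj G₂) (h : φ.hom ≫ (pullSh f).map a₂ = (pullSh f).map a₁) :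
    ∃ ψ : G₁ ≅ G₂, ψ.hom ≫ a₂ = a₁ := by
  have := surjective_of_isUnivSubmersive f hf
  have hfa := pullSh_faithful f
  have hm := mono_pull f a₂
  have hm2 := mono_pull (pullback.snd f f) ((pullSh f).map a₂)
  obtain ⟨b, hb, -⟩ := Groth.Agent.S3048.result f hf G₁ G₂ φ.hom (by
    rw [← cancel_mono ((pullSh (pullback.snd f f)).map ((pullSh f).map a₂)), Category.assoc,
      ← Functor.map_comp, h, canIso_naturality, Category.assoc, canIso_naturality,
      ← Category.assoc, ← Functor.map_comp, h])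
  have hb1 : b ≫ a₂ = a₁ := by
    apply (pullSh f).map_injective
    rw [Functor.map_comp, hb, h]
  have hb2 : IsIso ((pullSh f).map b) := by
    have hb' : (pullSh f).map b = φ.hom := hb
    rw [hb']
    infer_instance
  have hb3 := isIso_of_isIso_pullSh f b
  exact ⟨asIso b, hb1⟩

section PartB

variable {F : Sh X} {G' : Sh X'} (a' : G' ⟶ (pullSh f).obj F)
  (φ : (pullSh (pullback.fst f f)).obj G' ≅ (pullSh (pullback.snd f f)).obj G')
  (hφ : φ.hom ≫ (pullSh (pullback.snd f f)).map a' =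
            (pullSh (pullback.fst f f)).map a' ≫ (canIso f F).hom)

include hφ in
theorem mapStk_tr {Ω : Type u} [Field Ω] [IsSepClosed Ω] (ξ₁ ξ₂ : Spec (.of Ω) ⟶ X')
    (ξ : Spec (.of Ω) ⟶ X) (e : ξ₁ ≫ f = ξ₂ ≫ f) (h₁ : ξ₁ ≫ f = ξ) (h₂ : ξ₂ ≫ f = ξ)
    (σ : Stk G' ξ₁) (τ : Stk F ξ) (h : mapStk a' ξ₁ σ = pullStk' f F ξ₁ ξ h₁ τ) :
    mapStk a' ξ₂ (tr f G' φ ξ₁ ξ₂ e σ) = pullStk' f F ξ₂ ξ h₂ τ := by
  let η := pairPt f ξ₁ ξ₂ e
  have k₁ : η ≫ pullback.fst f f = ξ₁ := pairPt_fst f ξ₁ ξ₂ e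
  have k₂ : η ≫ pullback.snd f f = ξ₂ := pairPt_snd f ξ₁ ξ₂ e
  have h3 := congrArg (fun b => mapStk b η (pullStk' (pullback.fst f f) G' η ξ₁ k₁ σ)) hφ
  simp only [mapStk_comp] at h3
  rw [← pullStk'_tr f G' φ η ξ₁ ξ₂ e k₁ k₂, ← pullStk'_mapStk, ← pullStk'_mapStk, h,
    mapStk_canIso' f F η ξ₁ ξ₂ ξ k₁ k₂ h₁ h₂] at h3
  exact (pullStk' _ _ _ _ _).injective h3

include hφ in
theorem liftsAt (hf : EtSubmersive f) [Mono a'] {Ω : Type u} [Field Ω] [IsSepClosed Ω]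
    (ξ' : Spec (.of Ω) ⟶ X') : LiftsAt f G' φ ξ' := by
  intro σ
  obtain ⟨τ, hτ⟩ := (pullStk' f F ξ' (ξ' ≫ f) rfl).surjective (mapStk a' ξ' σ)
  obtain ⟨U, l, hl, t, rfl⟩ := exists_germ F τ
  have hA := isOpen_image_of_saturated f hf (isOpen_inSet a' (pullSect f F t)) (by
    intro Ω' _ _ m₁ m₂ e h₁
    have hξ : (m₂ ≫ bcFst f U) ≫ U.hom = (m₁ ≫ bcFst f U) ≫ U.hom := by rw [e]
    have e' : (m₁ ≫ ((EtCoh.bc f).obj U).hom) ≫ f = (m₂ ≫ ((EtCoh.bc f).obj U).hom) ≫ f := by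
      rw [Category.assoc, ← bc_condition, reassoc_of% e, bc_condition, Category.assoc]
    rw [mem_inSet_iff a' _ m₁ rfl] at h₁
    rw [mem_inSet_iff a' _ m₂ rfl]
    obtain ⟨σ₁, h₁⟩ := h₁
    rw [germ_pullSect f F t m₁ _ rfl ((m₁ ≫ bcFst f U) ≫ U.hom) rfl] at h₁
    have h4 := mapStk_tr f a' φ hφ _ (m₂ ≫ ((EtCoh.bc f).obj U).hom) _ e' _
      (by rw [← e', Category.assoc, ← bc_condition, Category.assoc]) σ₁ _ h₁
    refine ⟨_, h4.trans ?_⟩
    rw [germ_pullSect f F t m₂ _ rfl ((m₁ ≫ bcFst f U) ≫ U.hom) hξ]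
    congr 1
    simp only [e])
  have hmem : bcPt f ξ' l hl default ∈ inSet a' (pullSect f F t) := by
    rw [mem_inSet_iff a' _ (bcPt f ξ' l hl) (bcPt_hom _ _ _ _)]
    exact ⟨σ, by rw [← hτ, pullStk'_germ]⟩
  let D : U.left.Opens := ⟨_, hA.1⟩
  obtain ⟨k, hk⟩ := exists_lift_openEt U D l ⟨_, hmem, by
    rw [← Scheme.Hom.comp_apply, bcPt_fst]⟩
  have hk' : k ≫ (openEt U D).hom = ξ' ≫ f := by
    rw [← hl, ← hk, Category.assoc]
    exact congrArg _ (Over.w (openEtι U D).hom).symm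
  let t' : sect F (openEt U D) := F.obj.map (openEtι U D).op t
  have ht' : pullSect f F t' =
      ((pullSh f).obj F).obj.map ((EtCoh.bc f).map (openEtι U D)).op (pullSect f F t) :=
    pullSect_res f F _ t
  obtain ⟨s, hs⟩ := exists_of_inSet a' (pullSect f F t') (fun y => by
    rw [ht']
    refine inSet_res a' _ _ y ?_
    rw [← hA.2]
    exact range_bc_openEtι f U D ⟨y, rfl⟩)
  have hinj : ∀ (Ω' : Type u) [Field Ω'] [IsSepClosed Ω'] (ζ : Spec (CommRingCat.of Ω') ⟶ X'),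
    Function.Injective (mapStk a' ζ) := (mono_iff_stk a').1 inferInstance
  refine ⟨openEt U D, k, hk', s, ?_, ?_⟩
  · intro Ω' _ _ m₁ m₂ hm ξ₁ ξ₂ e h₁ h₂
    apply hinj
    have h5 : mapStk a' ξ₁ (germ G' m₁ h₁ s) = pullStk' f F ξ₁ (ξ₁ ≫ f) rfl
        (germ F (m₁ ≫ bcFst f (openEt U D)) (by
          rw [← h₁, Category.assoc, Category.assoc, bc_condition]) t') := by
      rw [mapStk_germ, hs, germ_pullSect]
    have h6 := mapStk_tr f a' φ hφ ξ₁ ξ₂ (ξ₁ ≫ f) e rfl e.symm _ _ h5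
    rw [h6, mapStk_germ, hs, germ_pullSect f F t' m₂ ξ₂ h₂ (ξ₁ ≫ f) (by
      rw [e, ← h₂, Category.assoc, Category.assoc, bc_condition])]
    congr 1
    simp only [hm]
  · apply hinj
    rw [mapStk_germ, hs, ← hτ, ← pullStk'_germ f F ξ' (ξ' ≫ f) rfl k hk' t']
    congr 1
    exact germ_res' F (openEtι U D) k hk' l hl hk t

include hφ in
theorem part_b (hf : IsUnivSubmersive f) [Mono a'] :
    ∃ (G : Sh X) (a : G ⟶ F) (_ : Mono a) (ψ : (pullSh f).obj G ≅ G'),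
        ψ.hom ≫ a' = (pullSh f).map a := by
  have hs := etSubmersive_of_isUnivSubmersive f hf
  have := surjective_of_isUnivSubmersive f hf
  have hfa := pullSh_faithful f
  obtain ⟨G, ψ, hψ⟩ := isEffective_of_liftsAt f G' φ hs (fun x' => by
    obtain ⟨Ω, _, _, l, hl⟩ := exists_geomPoint X' x'
    exact ⟨Ω, inferInstance, inferInstance, l, hl, liftsAt f a' φ hφ hs l⟩)
  have h1 : (canIso f G).hom ≫ (pullSh (pullback.snd f f)).map ψ.hom =
      (pullSh (pullback.fst f f)).map ψ.hom ≫ φ.hom := by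
    rw [← hψ]
    simp
  obtain ⟨a, ha, -⟩ := Groth.Agent.S3048.result f hf G F (ψ.hom ≫ a') (by
    rw [Functor.map_comp, reassoc_of% h1, hφ, Functor.map_comp, Category.assoc])
  have ha' : (pullSh f).map a = ψ.hom ≫ a' := ha
  have hma : Mono ((pullSh f).map a) := by
    rw [ha']; infer_instance
  exact ⟨G, a, (pullSh f).mono_of_mono_map hma, ψ, ha'.symm⟩

end PartB

end K223.SubDesc
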