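import Groth.Prelude.Def_Hens2
import Groth.Agent.S0427
import Groth.Agent.S0754
import Groth.Agent.Proet.WEtaleScheme
import Mathlib.AlgebraicGeometry.Morphisms.WeaklyEtale

/-!
# Sections of weakly étale morphisms over strictly local schemes

For `A` a strictly henselian local ring and `p : P ⟶ Spec A` weakly étale, the local scheme of `P` at a point over
the closed point maps isomorphically to `Spec A` (Olivier), so sections of `p` biject with points over a geometric
point at the closed point.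
-/

set_option autoImplicit false
universe u

open CategoryTheory CategoryTheory.Limits AlgebraicGeometry Opposite

namespace K223.WESec

variable {P : Scheme.{u}} {A : Type u} [CommRing A] [HenselianLocalRing A]
  [IsSepClosed (IsLocalRing.ResidueField A)]

theorem isIso_fromSpecStalk_comp (p : P ⟶ Spec (CommRingCat.of A)) [WeaklyEtale p] (y : P)
    (hy : p y = IsLocalRing.closedPoint A) : IsIso (P.fromSpecStalk y ≫ p) := by
  have hw : WeaklyEtale (P.fromSpecStalk y) := Groth.Agent.S0754.weaklyEtale_fromSpecStalk P y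
  obtain ⟨φ, hφ⟩ := Spec.map_surjective (P.fromSpecStalk y ≫ p)
  have h1 : WeaklyEtale (Spec.map φ) := by rw [hφ]; infer_instance
  rw [Groth.Agent.Proet.WEtaleScheme.weaklyEtale_Spec_map_iff] at h1
  have h2 : IsLocalHom φ.hom := by
    rw [IsLocalRing.isLocalHom_iff_comap_closedPoint]
    have h3 : (Spec.map φ) (IsLocalRing.closedPoint (P.presheaf.stalk y)) = IsLocalRing.closedPoint A := by
      rw [hφ]
      change p (P.fromSpecStalk y (IsLocalRing.closedPoint (P.presheaf.stalk y))) = _
      rw [Scheme.fromSpecStalk_closedPoint, hy]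
    exact h3
  let : Algebra A (P.presheaf.stalk y) := φ.hom.toAlgebra
  have h4 : Algebra.WeaklyEtale A (P.presheaf.stalk y) := h1
  have h5 : IsLocalHom (algebraMap A (P.presheaf.stalk y)) := h2
  have h6 : Function.Bijective (algebraMap A (P.presheaf.stalk y)) := Groth.Agent.S0427.result
  have h7 : IsIso φ := (ConcreteCategory.isIso_iff_bijective φ).2 h6
  rw [← hφ]
  infer_instance

theorem exists_fac {R : Type u} [CommRing R] [IsLocalRing R] (s : Spec (CommRingCat.of R) ⟶ P) (y : P)
    (hs : s (IsLocalRing.closedPoint R) = y) :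
    ∃ t : Spec (CommRingCat.of R) ⟶ Spec (P.presheaf.stalk y), t ≫ P.fromSpecStalk y = s := by
  subst hs
  exact ⟨_, Scheme.Spec_stalkClosedPointTo_fromSpecStalk s⟩

theorem section_unique (p : P ⟶ Spec (CommRingCat.of A)) [WeaklyEtale p]
    (s₁ s₂ : Spec (CommRingCat.of A) ⟶ P) (h₁ : s₁ ≫ p = 𝟙 _) (h₂ : s₂ ≫ p = 𝟙 _)
    (h : s₁ (IsLocalRing.closedPoint A) = s₂ (IsLocalRing.closedPoint A)) : s₁ = s₂ := by
  obtain ⟨t₁, ht₁⟩ := exists_fac s₁ _ rfl
  obtain ⟨t₂, ht₂⟩ := exists_fac s₂ (s₁ (IsLocalRing.closedPoint A)) h.symm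
  have hy : p (s₁ (IsLocalRing.closedPoint A)) = IsLocalRing.closedPoint A := by
    change (s₁ ≫ p) (IsLocalRing.closedPoint A) = _
    rw [h₁]; rfl
  have := isIso_fromSpecStalk_comp p _ hy
  have h3 : t₁ = t₂ := by
    rw [← cancel_mono (P.fromSpecStalk (s₁ (IsLocalRing.closedPoint A)) ≫ p), reassoc_of% ht₁,
      reassoc_of% ht₂, h₁, h₂]
  rw [← ht₁, ← ht₂, h3]

/-- A point over a geometric point at the closed point extends to a section. -/
theorem exists_section_of_point (p : P ⟶ Spec (CommRingCat.of A)) [WeaklyEtale p]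
    {K : Type u} [Field K] (q : Spec (CommRingCat.of K) ⟶ Spec (CommRingCat.of A))
    (hq : q (IsLocalRing.closedPoint K) = IsLocalRing.closedPoint A)
    (t : Spec (CommRingCat.of K) ⟶ P) (ht : t ≫ p = q) :
    ∃ s : Spec (CommRingCat.of A) ⟶ P, s ≫ p = 𝟙 _ ∧ q ≫ s = t := by
  obtain ⟨t', ht'⟩ := exists_fac t _ rfl
  have hy : p (t (IsLocalRing.closedPoint K)) = IsLocalRing.closedPoint A := by
    change (t ≫ p) (IsLocalRing.closedPoint K) = _
    rw [ht, hq]
  have := isIso_fromSpecStalk_comp p _ hy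
  refine ⟨inv (P.fromSpecStalk (t (IsLocalRing.closedPoint K)) ≫ p) ≫
    P.fromSpecStalk (t (IsLocalRing.closedPoint K)), by simp, ?_⟩
  have h1 : t' ≫ (P.fromSpecStalk _ ≫ p) = q := by rw [reassoc_of% ht', ht]
  rw [← h1, Category.assoc, IsIso.hom_inv_id_assoc, ht']

/-- Points over a separably closed point at the closed point give sections. -/
theorem exists_section (p : P ⟶ Spec (CommRingCat.of A)) [WeaklyEtale p] (y : P)
    (hy : p y = IsLocalRing.closedPoint A) :
    ∃ s : Spec (CommRingCat.of A) ⟶ P, s ≫ p = 𝟙 _ ∧ s (IsLocalRing.closedPoint A) = y := by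
  have := isIso_fromSpecStalk_comp p _ hy
  refine ⟨inv (P.fromSpecStalk y ≫ p) ≫ P.fromSpecStalk y, by simp, ?_⟩
  have h1 : (inv (P.fromSpecStalk y ≫ p)) (IsLocalRing.closedPoint A) =
      IsLocalRing.closedPoint (P.presheaf.stalk y) := by
    apply (P.fromSpecStalk y ≫ p).homeomorph.injective
    change (P.fromSpecStalk y ≫ p) _ = (P.fromSpecStalk y ≫ p) _
    have h2 : (P.fromSpecStalk y ≫ p) ((inv (P.fromSpecStalk y ≫ p)) (IsLocalRing.closedPoint A)) =
        (inv (P.fromSpecStalk y ≫ p) ≫ (P.fromSpecStalk y ≫ p)) (IsLocalRing.closedPoint A) := rfl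
    rw [h2, IsIso.inv_hom_id]
    change IsLocalRing.closedPoint A = p (P.fromSpecStalk y (IsLocalRing.closedPoint _))
    rw [Scheme.fromSpecStalk_closedPoint, hy]
  change P.fromSpecStalk y ((inv (P.fromSpecStalk y ≫ p)) (IsLocalRing.closedPoint A)) = y
  rw [h1, Scheme.fromSpecStalk_closedPoint]

end K223.WESec
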